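import Mathlib.Data.Nat.GCD.Basic
import Mathlib.Data.Nat.Prime.Basic
import Mathlib.Data.Nat.Factorization.Basic
import Mathlib.Tactic.IntervalCases
import Mathlib.Tactic.Ring
import Mathlib.Tactic.Linarith

/-!
Owner: helper29. Aschbacher's criterion, end game of unitary type: the number of other points is not divisible
by `q ^ 6`.
-/

set_option autoImplicit false

namespace CfsgLib.AschCrit.EndThree

/-- `k ^ 2 + k + 1` has no divisor `9`. -/
theorem not_nine_dvd (k : ℕ) : ¬ 9 ∣ k * k + k + 1 := by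
  intro h
  have h1 : (k % 9 * (k % 9) + k % 9 + 1) % 9 = 0 := by
    rw [← Nat.mod_eq_zero_of_dvd h]
    simp [Nat.add_mod, Nat.mul_mod]
  have h2 := Nat.mod_lt k (show 0 < 9 by norm_num)
  interval_cases hk : k % 9 <;> norm_num at h1

/-- The count with a large divisor is impossible. -/
theorem count_absurd {g r n q : ℕ} (hq : 4 ≤ q) (hqe : Even q) (hg : Odd g) (hr : Odd r) (hrg : r ≤ g)
    (hn : g * n = q ^ 3 * (g + (q ^ 3 + 1) * (q - 1) * r))
    (hp : ∀ p : ℕ, p.Prime → p ∣ g → p ∣ 3 * (q ^ 2 - 1)) : ¬ q ^ 6 ∣ n := by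
  rintro ⟨m, rfl⟩
  obtain ⟨k, rfl⟩ : ∃ k, q = k + 1 := ⟨q - 1, by omega⟩
  simp only [Nat.add_sub_cancel] at hn
  have hq3 : 0 < (k + 1) ^ 3 := by positivity
  have hn' : g * ((k + 1) ^ 3 * m) = g + ((k + 1) ^ 3 + 1) * k * r := by
    refine Nat.eq_of_mul_eq_mul_left hq3 ?_
    rw [← hn]; ring
  obtain ⟨g₀, r₀, hco, hgd, hrd⟩ := Nat.exists_coprime g r
  set d := Nat.gcd g r
  have hd : 0 < d := Nat.gcd_pos_of_pos_left _ hg.pos
  have hn0 : g₀ * ((k + 1) ^ 3 * m) = g₀ + ((k + 1) ^ 3 + 1) * k * r₀ := by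
    refine Nat.eq_of_mul_eq_mul_left hd ?_
    rw [hgd, hrd] at hn'
    linarith
  have hg0 : Odd g₀ := (Nat.odd_mul.1 (hgd ▸ hg)).1
  have hr0 : Odd r₀ := (Nat.odd_mul.1 (hrd ▸ hr)).1
  have hle : r₀ ≤ g₀ := Nat.le_of_mul_le_mul_right (hrd ▸ hgd ▸ hrg) hd
  have hk0 : Odd k := by
    rcases Nat.even_or_odd k with h | h
    · exact absurd hqe (Nat.not_even_iff_odd.2 h.add_one)
    · exact h
  have hsq : (k + 1) ^ 2 - 1 = k * (k + 2) := by
    rw [show (k + 1) ^ 2 = k * (k + 2) + 1 by ring, Nat.add_sub_cancel]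
  -- the divisibilities
  have h1 : g₀ ∣ k * (k + 2) * (k * k + k + 1) := by
    have h : g₀ ∣ g₀ + ((k + 1) ^ 3 + 1) * k * r₀ := hn0 ▸ dvd_mul_right _ _
    have h' := hco.dvd_of_dvd_mul_right ((Nat.dvd_add_right (dvd_refl g₀)).1 h)
    rwa [show ((k + 1) ^ 3 + 1) * k = k * (k + 2) * (k * k + k + 1) by ring] at h'
  have h2 : (k + 1) ^ 3 ∣ g₀ + k * r₀ := by
    have h : (k + 1) ^ 3 ∣ g₀ + k * r₀ + (k + 1) ^ 3 * (k * r₀) := by
      rw [show g₀ + k * r₀ + (k + 1) ^ 3 * (k * r₀) = g₀ + ((k + 1) ^ 3 + 1) * k * r₀ by ring, ← hn0]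
      exact ⟨g₀ * m, by ring⟩
    exact (Nat.dvd_add_left (dvd_mul_right _ _)).1 h
  have hthree : Nat.gcd g₀ (k * k + k + 1) ∣ 3 := by
    set c := Nat.gcd g₀ (k * k + k + 1) with hc
    have hcB : c ∣ k * k + k + 1 := Nat.gcd_dvd_right _ _
    have hc0 : c ≠ 0 := (Nat.gcd_pos_of_pos_left _ hg0.pos).ne'
    have hprime : ∀ {p : ℕ}, p.Prime → p ∣ c → p = 3 := fun {p} hpp hpc => by
      have hpB := hpc.trans hcB
      have h := hp p hpp (hgd ▸ (hpc.trans (Nat.gcd_dvd_left _ _)).mul_right d)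
      rw [hsq] at h
      rcases hpp.dvd_mul.1 h with h | h
      · exact (Nat.prime_dvd_prime_iff_eq hpp Nat.prime_three).1 h
      rcases hpp.dvd_mul.1 h with h | h
      · exfalso
        have h' : p ∣ k * (k + 1) + 1 := by rwa [show k * (k + 1) + 1 = k * k + k + 1 by ring]
        exact hpp.not_dvd_one ((Nat.dvd_add_right (h.mul_right _)).1 h')
      · refine (Nat.prime_dvd_prime_iff_eq hpp Nat.prime_three).1 ?_
        have h' : k * k + k + 1 + (k + 2) = k * (k + 2) + 3 := by ring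
        exact (Nat.dvd_add_right (h.mul_left k)).1 (h' ▸ dvd_add hpB h)
    rw [Nat.eq_prime_pow_of_unique_prime_dvd hc0 hprime] at hcB ⊢
    refine (Nat.pow_dvd_pow 3 ?_).trans (pow_one 3).dvd
    by_contra hlt
    exact not_nine_dvd k ((Nat.pow_dvd_pow 3 (show 2 ≤ _ by omega)).trans hcB)
  have h3 : g₀ ∣ k * (k + 2) * 3 := by
    have h : g₀ ∣ Nat.gcd (k * (k + 2) * g₀) (k * (k + 2) * (k * k + k + 1)) := Nat.dvd_gcd (dvd_mul_left _ _) h1
    rw [Nat.gcd_mul_left] at h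
    exact h.trans (Nat.mul_dvd_mul_left _ hthree)
  obtain ⟨c, hc⟩ := h3
  obtain ⟨l, hl⟩ := h2
  have hcodd : Odd c := (Nat.odd_mul.1 (hc ▸ ((hk0.mul (hk0.add_even ⟨1, rfl⟩)).mul (by decide : Odd 3)))).2
  have hl0 : 0 < l := by
    rcases Nat.eq_zero_or_pos l with rfl | h
    · rw [Nat.mul_zero] at hl; have := hg0.pos; omega
    · exact h
  have hub : g₀ + k * r₀ ≤ (k + 1) * g₀ := by nlinarith
  rcases Nat.lt_or_ge c 2 with hc1 | hc1
  · obtain rfl : c = 1 := by have := hcodd.pos; omega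
    rw [mul_one] at hc
    have hdvd : k ∣ (k + 1) ^ 3 * l := hl ▸ hc ▸ dvd_add ((dvd_mul_right _ _).mul_right 3) (dvd_mul_right _ _)
    have hcop : Nat.Coprime k ((k + 1) ^ 3) :=
      Nat.Coprime.pow_right 3 (by rw [Nat.coprime_self_add_right]; exact Nat.coprime_one_right k)
    have hkl := Nat.le_of_dvd hl0 (hcop.dvd_of_dvd_mul_left hdvd)
    have h5 : (k + 1) ^ 3 * k ≤ (k + 1) * g₀ := le_trans (Nat.mul_le_mul_left _ hkl) (hl ▸ hub)
    nlinarith
  · have hc3 : 3 ≤ c := by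
      rcases hcodd with ⟨j, rfl⟩
      omega
    have h4 : 3 * g₀ ≤ k * (k + 2) * 3 := by rw [hc]; nlinarith
    have h5 : (k + 1) ^ 3 * 1 ≤ (k + 1) * g₀ := le_trans (Nat.mul_le_mul_left _ hl0) (hl ▸ hub)
    nlinarith

end CfsgLib.AschCrit.EndThree
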