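import Cfsg.Agent.Lib.Invol.AschCrit.EndThree.UnitForm
import Cfsg.Agent.Lib.Invol.AschCrit.EndOne.Basic
import Cfsg.Agent.Lib.Invol.AschCrit.CentData
import Cfsg.Agent.Lib.Invol.AschCrit.UnitaryKernelDef

/-!
Owner: helper29. Aschbacher's criterion, end game of unitary type: coordinates of `P / E`.

* `Three`: the model with the coordinates `(ec, xc, zc)` of `P / E`, the square being
  `ec xc + lam xc + N zc`.
* `exists_three`: they exist when the kernel has order two.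
* `Three.comm_eq`: the commutator form.
-/

set_option autoImplicit false
set_option linter.unusedSectionVars false
set_option linter.style.haveILetI false

namespace CfsgLib.AschCrit.EndThree

open Subgroup MulAction CfsgLib.Classical.Herm

universe u

variable {G : Type u} [Group G] [Finite G] (Ω : Type u) [MulAction G Ω]

/-- A model of unitary type with coordinates. -/
structure Three (D : Set G) (L : Type) [Field L] [Finite L] [CharP L 2] where
  u : G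
  a : Ω
  b : Ω
  E : Subgroup G
  q : ℕ
  s : ℕ
  P : Subgroup G
  R : Subgroup G
  X : Subgroup G
  Q : Subgroup G
  t : G
  σ : L →+* L
  η : G → L
  ei : L → G
  ec : G → L
  xc : G → L
  zc : G → L
  lam : L → L
  crit : Crit Ω D
  faith : Faithful G Ω
  below : Below.{u, u} (Nat.card G)
  orb : OrbitBound Ω D
  fr : Frame D u a b E q 3
  mod : ModelAt D u a b E q 3 P R X Q t
  R_two : Nat.card R = 2
  two_s : 2 ≤ s
  q_eq : q = 2 ^ s
  invol : IsInvol σ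
  card_fix : Nat.card (fixedSub σ) = 2 ^ s
  eta_mem : ∀ e ∈ E, σ (η e) = η e
  eta_mul : ∀ e ∈ E, ∀ f ∈ E, η (e * f) = η e + η f
  eta_inj : ∀ e ∈ E, η e = 0 → e = 1
  ei_mem : ∀ x, σ x = x → ei x ∈ E ∧ η (ei x) = x
  ec_mul : ∀ g ∈ P, ∀ k ∈ P, ec (g * k) = ec g + ec k
  xc_mul : ∀ g ∈ P, ∀ k ∈ P, xc (g * k) = xc g + xc k
  zc_mul : ∀ g ∈ P, ∀ k ∈ P, zc (g * k) = zc g + zc k
  ec_cases : ∀ g ∈ P, ec g = 0 ∨ ec g = 1
  xc_fix : ∀ g ∈ P, σ (xc g) = xc g
  ker : ∀ g ∈ P, ec g = 0 → xc g = 0 → zc g = 0 → g ∈ E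
  ker' : ∀ g ∈ E, ec g = 0 ∧ xc g = 0 ∧ zc g = 0
  onto : ∀ x z, σ x = x → ∃ g ∈ P, ec g = 0 ∧ xc g = x ∧ zc g = z
  u_co : ec u = 1 ∧ xc u = 0 ∧ zc u = 0
  X_iff : ∀ g, g ∈ X ↔ g ∈ P ∧ ec g = 0 ∧ zc g = 0
  Q_iff : ∀ g, g ∈ Q ↔ g ∈ P ∧ ec g = 0 ∧ xc g = 0
  lam_fix : ∀ x, σ x = x → σ (lam x) = lam x
  lam_add : ∀ x y, σ x = x → σ y = y → lam (x + y) = lam x + lam y
  sq_mem : ∀ g ∈ P, g * g ∈ E
  sq : ∀ g ∈ P, η (g * g) = ec g * xc g + lam (xc g) + nrm σ (zc g)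

variable {Ω}

theorem exists_three {D : Set G} (h : Crit Ω D) (hf : Faithful G Ω) (IH : Below.{u, u} (Nat.card G))
    (ho : OrbitBound Ω D) {u : G} {a b : Ω} {E : Subgroup G} {q : ℕ} {P R X Q : Subgroup G} {t : G}
    (hFr : Frame D u a b E q 3) (hm : ModelAt D u a b E q 3 P R X Q t) (hR : Nat.card R = 2) :
    ∃ (L : Type) (_ : Field L) (_ : Finite L) (_ : CharP L 2) (T : Three Ω D L),
      T.u = u ∧ T.a = a ∧ T.P = P := by
  classical
  obtain ⟨L, iL, iF, iC, σ, η, l, hU⟩ := exists_uform h hf IH hFr hm hR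
  obtain ⟨s, hs2, rfl⟩ := hFr.data.pow
  have hs : 2 ≤ s := by
    by_contra hlt
    have := Crit.four_le_q hFr.data
    interval_cases s <;> omega
  have hu2 : u * u = 1 := CfsgLib.Signalizer.involution_sq hFr.multi.1
  have hu1 : u ≠ 1 := CfsgLib.Signalizer.involution_ne_one hFr.multi.1
  have huQ : u ∉ Q := fun hQ => hFr.data.ne (h.fix_unique u
    (hFr.data.mem u (hm.Q_sq_one u hQ hu2) hu1).1 a b hFr.data.fix_a hFr.data.fix_b)
  have hR2 : ∀ r ∈ R, r = 1 ∨ r = u := fun r hr => by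
    by_contra hcon
    push Not at hcon
    let f : Fin 3 → R := ![⟨r, hr⟩, 1, ⟨u, hm.u_mem⟩]
    have hfi : Function.Injective f := by
      intro i j e
      have e' := congrArg Subtype.val e
      fin_cases i <;> fin_cases j <;>
        simp [f, hcon.1, hcon.2, Ne.symm hcon.1, Ne.symm hcon.2, hu1, Ne.symm hu1] at e' ⊢
    have := Nat.card_le_card_of_injective f hfi
    rw [hR, Nat.card_fin] at this
    omega
  have hEc : ∀ g ∈ P, ∀ e ∈ E, Commute g e := fun g hg => (hm.sub g hg).2.1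
  have hRQ : ∀ {r}, r ∈ R → ∀ {y}, y ∈ Q → Commute r y := fun {r} hr {y} hy => ((hm.Q_cent _ hy).2 _ hr).symm
  have hXQ : ∀ {x}, x ∈ X → ∀ {y}, y ∈ Q → Commute x y := fun {x} hx {y} hy => hm.XQ_three rfl _ hx _ hy
  have heta0 : η 1 = 0 := by
    have := hU.eta_mul 1 (one_mem _) 1 (one_mem _)
    rwa [mul_one, left_eq_add] at this
  -- `ξ` is `η [u, g]`
  let br : G → G := fun g => u * g * u⁻¹ * g⁻¹
  have hbrX : ∀ x ∈ X, br x ∈ E := fun x hx => hm.RX u hm.u_mem x hx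
  have hbr_mul : ∀ x ∈ X, ∀ x' ∈ X, br (x * x') = br x * br x' := fun x hx x' hx' => by
    calc br (x * x') = br x * (x * br x' * x⁻¹) := by simp only [br]; group
      _ = br x * br x' := by rw [(hEc x (hm.X_le hx) _ (hbrX x' hx')).eq, mul_inv_cancel_right]
  have hbrE : ∀ e ∈ E, br e = 1 := fun e he => by
    show u * e * u⁻¹ * e⁻¹ = 1
    rw [(hEc u (hm.R_le hm.u_mem) e he).eq, mul_inv_cancel_right, mul_inv_cancel]
  have hbr : ∀ r ∈ R, ∀ x ∈ X, ∀ y ∈ Q, br (r * x * y) = br x := fun r hr x hx y hy => by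
    have hur : Commute u r := by
      rcases hR2 r hr with rfl | rfl
      · exact Commute.one_right _
      · exact Commute.refl _
    calc br (r * x * y) = (u * r) * x * (y * u⁻¹) * y⁻¹ * x⁻¹ * r⁻¹ := by simp only [br]; group
      _ = (r * u) * x * (u⁻¹ * y) * y⁻¹ * x⁻¹ * r⁻¹ := by rw [hur.eq, ((hm.Q_cent y hy).1.inv_right).eq]
      _ = r * br x * r⁻¹ := by simp only [br]; group
      _ = br x := by rw [(hEc r (hm.R_le hr) _ (hbrX x hx)).eq, mul_inv_cancel_right]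
  -- uniqueness
  have huniq : ∀ r ∈ R, ∀ x ∈ X, ∀ y ∈ Q, ∀ r' ∈ R, ∀ x' ∈ X, ∀ y' ∈ Q, r * x * y = r' * x' * y' →
      r = r' ∧ l y = l y' := by
    intro r hr x hx y hy r' hr' x' hx' y' hy' he
    have hbb : br x = br x' := by rw [← hbr r hr x hx y hy, he, hbr r' hr' x' hx' y' hy']
    set d := x⁻¹ * x' with hd
    have hdX : d ∈ X := mul_mem (inv_mem hx) hx'
    have hdE : d ∈ E := by
      refine hm.RX_ker u hm.u_mem hu1 d hdX ?_
      have h1 : br x * br d = br x' := by rw [← hbr_mul x hx d hdX, hd, mul_inv_cancel_left]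
      rw [← hbb, mul_eq_left] at h1
      exact mul_inv_eq_iff_eq_mul.1 (mul_inv_eq_one.1 h1)
    have hx'e : x' = x * d := by rw [hd, mul_inv_cancel_left]
    have hrr : r⁻¹ * r' ∈ Q := by
      have hconj : x⁻¹ * (r⁻¹ * r') * x ∈ Q := by
        have h1 : x⁻¹ * (r⁻¹ * r') * x = y * y'⁻¹ * d⁻¹ := by
          rw [hx'e] at he
          calc x⁻¹ * (r⁻¹ * r') * x = (r * x)⁻¹ * (r' * (x * d) * y') * y'⁻¹ * d⁻¹ := by group
            _ = _ := by rw [← he]; group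
        rw [h1]
        exact mul_mem (mul_mem hy (inv_mem hy')) (inv_mem (hm.E_Q hdE))
      have h2 : Commute x (x⁻¹ * (r⁻¹ * r') * x) := hXQ hx hconj
      have h3 : r⁻¹ * r' = x⁻¹ * (r⁻¹ * r') * x := by
        calc r⁻¹ * r' = x * (x⁻¹ * (r⁻¹ * r') * x) * x⁻¹ := by group
          _ = _ := by rw [h2.eq, mul_inv_cancel_right]
      rw [h3]; exact hconj
    have hrr' : r = r' := by
      rcases hR2 _ (mul_mem (inv_mem hr) hr') with h1 | h1
      · exact inv_mul_eq_one.1 h1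
      · exact absurd (h1 ▸ hrr) huQ
    refine ⟨hrr', ?_⟩
    rw [hrr', hx'e, mul_assoc r', mul_assoc r', mul_assoc x, mul_left_cancel_iff, mul_left_cancel_iff] at he
    rw [he, hU.l_mul d (hm.E_Q hdE) y' hy', (hU.l_zero d (hm.E_Q hdE)).2 hdE, zero_add]
  -- the functions
  let rr : G → G := fun g => if hg : g ∈ P then (hm.gen g hg).choose else 1
  let yy : G → G := fun g => if hg : g ∈ P then (hm.gen g hg).choose_spec.2.choose_spec.2.choose else 1
  let ec : G → L := fun g => if rr g = u then 1 else 0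
  let xc : G → L := fun g => η (br g)
  let zc : G → L := fun g => l (yy g)
  have hval : ∀ r ∈ R, ∀ x ∈ X, ∀ y ∈ Q,
      ec (r * x * y) = (if r = u then 1 else 0) ∧ xc (r * x * y) = η (br x) ∧ zc (r * x * y) = l y := by
    intro r hr x hx y hy
    have hg : r * x * y ∈ P := mul_mem (mul_mem (hm.R_le hr) (hm.X_le hx)) (hm.Q_le hy)
    obtain ⟨hr', x', hx', hspec⟩ := (hm.gen _ hg).choose_spec
    have hspec' := (hm.gen _ hg).choose_spec.2.choose_spec
    obtain ⟨hy', he⟩ := hspec'.2.choose_spec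
    obtain ⟨e1, e2⟩ := huniq r hr x hx y hy _ hr' _ hspec'.1 _ hy' he
    have h1 : rr (r * x * y) = (hm.gen _ hg).choose := dif_pos hg
    have h2 : yy (r * x * y) = (hm.gen _ hg).choose_spec.2.choose_spec.2.choose := dif_pos hg
    refine ⟨?_, ?_, ?_⟩
    · show (if rr _ = u then _ else _) = _; rw [h1, ← e1]
    · show η (br _) = _; rw [hbr r hr x hx y hy]
    · show l (yy _) = _; rw [h2, ← e2]
  have hmul : ∀ r ∈ R, ∀ x ∈ X, ∀ y ∈ Q, ∀ r' ∈ R, ∀ x' ∈ X, ∀ y' ∈ Q, ∃ e ∈ E,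
      r * x * y * (r' * x' * y') = r * r' * (e * x * x') * (y * y') := by
    intro r hr x hx y hy r' hr' x' hx' y' hy'
    refine ⟨r'⁻¹ * x * r'⁻¹⁻¹ * x⁻¹, hm.RX _ (inv_mem hr') x hx, ?_⟩
    calc r * x * y * (r' * x' * y') = r * x * (y * r') * x' * y' := by group
      _ = r * x * r' * (y * x') * y' := by rw [← (hRQ hr' hy).eq]; group
      _ = _ := by rw [← (hXQ hx' hy).eq]; group
  have hone : ∀ g ∈ Q, ec g = 0 ∧ xc g = 0 ∧ zc g = l g := fun g hg => by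
    have h1 := hval 1 (one_mem _) 1 (one_mem _) g hg
    rw [one_mul, one_mul] at h1
    rw [h1.1, h1.2.1, h1.2.2, if_neg (Ne.symm hu1), hbrE 1 (one_mem _), heta0]
    exact ⟨rfl, rfl, rfl⟩
  have hxX : ∀ g ∈ X, ec g = 0 ∧ zc g = 0 := fun g hg => by
    have h1 := hval 1 (one_mem _) g hg 1 (one_mem _)
    rw [one_mul, mul_one] at h1
    rw [h1.1, h1.2.2, if_neg (Ne.symm hu1)]
    exact ⟨rfl, (hU.l_zero 1 (one_mem _)).2 (one_mem _)⟩
  let ei : L → G := fun x => if hx : σ x = x then (hU.eta_onto x hx).choose else 1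
  have hei : ∀ x, σ x = x → ei x ∈ E ∧ η (ei x) = x := fun x hx => by
    simp only [ei, dif_pos hx]; exact (hU.eta_onto x hx).choose_spec
  have hxex : ∀ x, σ x = x → ∃ g ∈ X, br g = ei x := fun x hx => hm.RX_onto u hm.u_mem hu1 _ (hei x hx).1
  let xv : L → G := fun x => if hx : σ x = x then (hxex x hx).choose else 1
  have hxv : ∀ x, σ x = x → xv x ∈ X ∧ η (br (xv x)) = x := fun x hx => by
    simp only [xv, dif_pos hx]
    refine ⟨(hxex x hx).choose_spec.1, ?_⟩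
    rw [(hxex x hx).choose_spec.2, (hei x hx).2]
  let lam : L → L := fun x => η (xv x * xv x)
  have hlam : ∀ x ∈ X, η (x * x) = lam (η (br x)) := fun x hx => by
    obtain ⟨hv, hve⟩ := hxv _ (hU.eta_mem _ (hbrX x hx))
    set v := xv (η (br x)) with hv'
    set d := v⁻¹ * x with hd
    have hdX : d ∈ X := mul_mem (inv_mem hv) hx
    have hxd : x = v * d := by rw [hd, mul_inv_cancel_left]
    have hbd : br d = 1 := by
      refine hU.eta_inj _ (hbrX d hdX) ?_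
      have h1 := hU.eta_mul _ (hbrX v hv) _ (hbrX d hdX)
      rw [← hbr_mul v hv d hdX, ← hxd, hve, left_eq_add] at h1
      exact h1
    have hdE : d ∈ E := hm.RX_ker u hm.u_mem hu1 d hdX (mul_inv_eq_iff_eq_mul.1 (mul_inv_eq_one.1 hbd))
    have hd2 : d * d = 1 := by
      rcases eq_or_ne d 1 with h1 | h1
      · rw [h1, mul_one]
      · exact h.sq (hFr.data.mem d hdE h1).1
    show η (x * x) = η (v * v)
    congr 1
    rw [hxd, mul_assoc, ← mul_assoc d, ← (hEc v (hm.X_le hv) d hdE).eq, mul_assoc v d, hd2, mul_one]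
  refine ⟨L, iL, iF, iC,
    { u := u, a := a, b := b, E := E, q := 2 ^ s, s := s, P := P, R := R, X := X, Q := Q, t := t
      σ := σ, η := η, ei := ei, ec := ec, xc := xc, zc := zc, lam := lam
      crit := h, faith := hf, below := IH, orb := ho, fr := hFr, mod := hm, R_two := hR
      two_s := hs, q_eq := rfl, invol := hU.invol, card_fix := hU.card
      eta_mem := hU.eta_mem, eta_mul := hU.eta_mul, eta_inj := hU.eta_inj, ei_mem := hei
      ec_mul := ?_, xc_mul := ?_, zc_mul := ?_, ec_cases := ?_, xc_fix := ?_, ker := ?_, ker' := ?_, onto := ?_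
      u_co := ?_, X_iff := ?_, Q_iff := ?_, lam_fix := ?_, lam_add := ?_, sq_mem := ?_, sq := ?_ }, rfl, rfl, rfl⟩
  · intro g hg k hk
    obtain ⟨r, hr, x, hx, y, hy, rfl⟩ := hm.gen g hg
    obtain ⟨r', hr', x', hx', y', hy', rfl⟩ := hm.gen k hk
    obtain ⟨e, he, e1⟩ := hmul r hr x hx y hy r' hr' x' hx' y' hy'
    rw [e1, (hval _ (mul_mem hr hr') _ (mul_mem (mul_mem (hm.E_X he) hx) hx') _ (mul_mem hy hy')).1,
      (hval r hr x hx y hy).1, (hval r' hr' x' hx' y' hy').1]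
    rcases hR2 r hr with rfl | rfl <;> rcases hR2 r' hr' with rfl | rfl <;>
      simp [Ne.symm hu1, hu2, CharTwo.add_self_eq_zero]
  · intro g hg k hk
    obtain ⟨r, hr, x, hx, y, hy, rfl⟩ := hm.gen g hg
    obtain ⟨r', hr', x', hx', y', hy', rfl⟩ := hm.gen k hk
    obtain ⟨e, he, e1⟩ := hmul r hr x hx y hy r' hr' x' hx' y' hy'
    rw [e1, (hval _ (mul_mem hr hr') _ (mul_mem (mul_mem (hm.E_X he) hx) hx') _ (mul_mem hy hy')).2.1,
      (hval r hr x hx y hy).2.1, (hval r' hr' x' hx' y' hy').2.1, hbr_mul _ (mul_mem (hm.E_X he) hx) _ hx',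
      hbr_mul _ (hm.E_X he) _ hx, hbrE e he, one_mul, hU.eta_mul _ (hbrX x hx) _ (hbrX x' hx')]
  · intro g hg k hk
    obtain ⟨r, hr, x, hx, y, hy, rfl⟩ := hm.gen g hg
    obtain ⟨r', hr', x', hx', y', hy', rfl⟩ := hm.gen k hk
    obtain ⟨e, he, e1⟩ := hmul r hr x hx y hy r' hr' x' hx' y' hy'
    rw [e1, (hval _ (mul_mem hr hr') _ (mul_mem (mul_mem (hm.E_X he) hx) hx') _ (mul_mem hy hy')).2.2,
      (hval r hr x hx y hy).2.2, (hval r' hr' x' hx' y' hy').2.2, hU.l_mul y hy y' hy']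
  · intro g _
    simp only [ec]
    split_ifs
    exacts [Or.inr rfl, Or.inl rfl]
  · intro g hg
    obtain ⟨r, hr, x, hx, y, hy, rfl⟩ := hm.gen g hg
    rw [(hval r hr x hx y hy).2.1]
    exact hU.eta_mem _ (hbrX x hx)
  · intro g hg h1 h2 h3
    obtain ⟨r, hr, x, hx, y, hy, rfl⟩ := hm.gen g hg
    obtain ⟨e1, e2, e3⟩ := hval r hr x hx y hy
    rw [e1] at h1
    rw [e2] at h2
    rw [e3] at h3
    have hxE : x ∈ E := hm.RX_ker u hm.u_mem hu1 x hx (mul_inv_eq_iff_eq_mul.1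
      (mul_inv_eq_one.1 (hU.eta_inj _ (hbrX x hx) h2)))
    rcases hR2 r hr with rfl | rfl
    · rw [one_mul]; exact mul_mem hxE ((hU.l_zero y hy).1 h3)
    · simp at h1
  · intro g hg
    obtain ⟨e1, e2, e3⟩ := hone g (hm.E_Q hg)
    exact ⟨e1, e2, e3.trans ((hU.l_zero g (hm.E_Q hg)).2 hg)⟩
  · intro x z hx
    obtain ⟨hv, hve⟩ := hxv x hx
    obtain ⟨y, hy, rfl⟩ := hU.l_onto z
    obtain ⟨e1, e2, e3⟩ := hval 1 (one_mem _) (xv x) hv y hy
    exact ⟨_, mul_mem (mul_mem (one_mem P) (hm.X_le hv)) (hm.Q_le hy),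
      e1.trans (if_neg (Ne.symm hu1)), e2.trans hve, e3⟩
  · obtain ⟨e1, e2, e3⟩ := hval u hm.u_mem 1 (one_mem _) 1 (one_mem _)
    rw [mul_one, mul_one] at e1 e2 e3
    rw [if_pos rfl] at e1
    exact ⟨e1, e2.trans (by rw [hbrE 1 (one_mem _), heta0]), e3.trans ((hU.l_zero 1 (one_mem _)).2 (one_mem _))⟩
  · intro g
    refine ⟨fun hg => ⟨hm.X_le hg, hxX g hg⟩, ?_⟩
    rintro ⟨hg, h1, h3⟩
    obtain ⟨r, hr, x, hx, y, hy, rfl⟩ := hm.gen g hg
    obtain ⟨e1, -, e3⟩ := hval r hr x hx y hy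
    rw [e1] at h1
    rw [e3] at h3
    rcases hR2 r hr with rfl | rfl
    · rw [one_mul]; exact mul_mem hx (hm.E_X ((hU.l_zero y hy).1 h3))
    · simp at h1
  · intro g
    refine ⟨fun hg => ⟨hm.Q_le hg, (hone g hg).1, (hone g hg).2.1⟩, ?_⟩
    rintro ⟨hg, h1, h2⟩
    obtain ⟨r, hr, x, hx, y, hy, rfl⟩ := hm.gen g hg
    obtain ⟨e1, e2, -⟩ := hval r hr x hx y hy
    rw [e1] at h1
    rw [e2] at h2
    rcases hR2 r hr with rfl | rfl
    · rw [one_mul]
      exact mul_mem (hm.E_Q (hm.RX_ker u hm.u_mem hu1 x hx (mul_inv_eq_iff_eq_mul.1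
        (mul_inv_eq_one.1 (hU.eta_inj _ (hbrX x hx) h2))))) hy
    · simp at h1
  · intro x hx
    exact hU.eta_mem _ (hm.X_sq _ (hxv x hx).1)
  · intro x y hx hy
    obtain ⟨hv, hve⟩ := hxv x hx
    obtain ⟨hw, hwe⟩ := hxv y hy
    have h1 : η (br (xv x * xv y)) = x + y := by
      rw [hbr_mul _ hv _ hw, hU.eta_mul _ (hbrX _ hv) _ (hbrX _ hw), hve, hwe]
    calc lam (x + y) = η (xv x * xv y * (xv x * xv y)) := by rw [hlam _ (mul_mem hv hw), h1]
      _ = η ((xv x * xv x) * (xv y * xv y)) := by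
          congr 1
          rw [mul_assoc (xv x), ← mul_assoc (xv y), (hm.X_comm _ hw _ hv).eq]; group
      _ = lam x + lam y := hU.eta_mul _ (hm.X_sq _ hv) _ (hm.X_sq _ hw)
  · intro g hg
    obtain ⟨r, hr, x, hx, y, hy, rfl⟩ := hm.gen g hg
    have hc : Commute (r * x) y := Commute.mul_left (hRQ hr hy) (hXQ hx hy)
    rw [show r * x * y * (r * x * y) = r * x * (y * (r * x)) * y by group, ← hc.eq,
      show r * x * (r * x * y) * y = r * x * (r * x) * (y * y) by group]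
    refine mul_mem ?_ (hm.Q_sq y hy)
    rcases hR2 r hr with rfl | rfl
    · rw [one_mul]; exact hm.X_sq x hx
    · rw [show r * x * (r * x) = r * x * r * x⁻¹ * (x * x) by group]
      refine mul_mem ?_ (hm.X_sq x hx)
      have := hm.RX r hr x hx
      rwa [inv_eq_of_mul_eq_one_right hu2] at this
  · intro g hg
    obtain ⟨r, hr, x, hx, y, hy, rfl⟩ := hm.gen g hg
    obtain ⟨e1, e2, e3⟩ := hval r hr x hx y hy
    have hc : Commute (r * x) y := Commute.mul_left (hRQ hr hy) (hXQ hx hy)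
    rw [e1, e2, e3, show r * x * y * (r * x * y) = r * x * (y * (r * x)) * y by group, ← hc.eq,
      show r * x * (r * x * y) * y = r * x * (r * x) * (y * y) by group]
    rcases hR2 r hr with rfl | rfl
    · rw [one_mul, hU.eta_mul _ (hm.X_sq x hx) _ (hm.Q_sq y hy), hlam x hx, hU.sq y hy, if_neg (Ne.symm hu1),
        zero_mul, zero_add]
      rfl
    · have hu' : r⁻¹ = r := inv_eq_of_mul_eq_one_right hu2
      rw [show r * x * (r * x) = br x * (x * x) by simp only [br]; rw [hu']; group,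
        hU.eta_mul _ (mul_mem (hbrX x hx) (hm.X_sq x hx)) _ (hm.Q_sq y hy),
        hU.eta_mul _ (hbrX x hx) _ (hm.X_sq x hx), hlam x hx, hU.sq y hy, if_pos rfl, one_mul]
      rfl

namespace Three

variable {D : Set G} {L : Type} [Field L] [Finite L] [CharP L 2] (T : Three Ω D L)
include T

theorem E_le : T.E ≤ T.P := fun _ he => T.mod.X_le (T.mod.E_X he)

theorem u_mem : T.u ∈ T.P := T.mod.R_le T.mod.u_mem

theorem Ec {g : G} (hg : g ∈ T.P) {e : G} (he : e ∈ T.E) : Commute g e := (T.mod.sub g hg).2.1 e he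

theorem fix_a {g : G} (hg : g ∈ T.P) : g • T.a = T.a := (T.mod.sub g hg).1

theorem u_sq : T.u * T.u = 1 := CfsgLib.Signalizer.involution_sq T.fr.multi.1

theorem E_sq {e : G} (he : e ∈ T.E) : e * e = 1 := by
  rcases eq_or_ne e 1 with h1 | h1
  · rw [h1, mul_one]
  · exact T.crit.sq (T.fr.data.mem e he h1).1

theorem q_four : 4 ≤ T.q := Crit.four_le_q T.fr.data

theorem eta_one : T.η 1 = 0 := by
  have h := T.eta_mul 1 (one_mem _) 1 (one_mem _)
  rwa [mul_one, left_eq_add] at h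

theorem eta_inv {e : G} (he : e ∈ T.E) : T.η e⁻¹ = T.η e := by
  rw [inv_eq_of_mul_eq_one_right (T.E_sq he)]

theorem eta_eq {e f : G} (he : e ∈ T.E) (hf : f ∈ T.E) (h : T.η e = T.η f) : e = f :=
  mul_inv_eq_one.1 (T.eta_inj _ (mul_mem he (inv_mem hf)) (by
    rw [T.eta_mul e he _ (inv_mem hf), T.eta_inv hf, h, CharTwo.add_self_eq_zero]))

theorem co_one : T.ec 1 = 0 ∧ T.xc 1 = 0 ∧ T.zc 1 = 0 := T.ker' 1 (one_mem _)

theorem co_inv {g : G} (hg : g ∈ T.P) : T.ec g⁻¹ = T.ec g ∧ T.xc g⁻¹ = T.xc g ∧ T.zc g⁻¹ = T.zc g := by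
  obtain ⟨h1, h2, h3⟩ := T.co_one
  have e1 := T.ec_mul g hg g⁻¹ (inv_mem hg)
  have e2 := T.xc_mul g hg g⁻¹ (inv_mem hg)
  have e3 := T.zc_mul g hg g⁻¹ (inv_mem hg)
  rw [mul_inv_cancel] at e1 e2 e3
  exact ⟨(eq_of_add_zero (e1.symm.trans h1)).symm, (eq_of_add_zero (e2.symm.trans h2)).symm,
    (eq_of_add_zero (e3.symm.trans h3)).symm⟩

/-- Equal coordinates differ by an element of `E`. -/
theorem inv_mul_mem {g k : G} (hg : g ∈ T.P) (hk : k ∈ T.P) (h1 : T.ec g = T.ec k) (h2 : T.xc g = T.xc k)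
    (h3 : T.zc g = T.zc k) : g⁻¹ * k ∈ T.E := by
  obtain ⟨e1, e2, e3⟩ := T.co_inv hg
  exact T.ker _ (mul_mem (inv_mem hg) hk)
    (by rw [T.ec_mul _ (inv_mem hg) k hk, e1, h1, CharTwo.add_self_eq_zero])
    (by rw [T.xc_mul _ (inv_mem hg) k hk, e2, h2, CharTwo.add_self_eq_zero])
    (by rw [T.zc_mul _ (inv_mem hg) k hk, e3, h3, CharTwo.add_self_eq_zero])

theorem comm_mem {g k : G} (hg : g ∈ T.P) (hk : k ∈ T.P) : g * k * g⁻¹ * k⁻¹ ∈ T.E := by
  have hgk := mul_mem hg hk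
  obtain ⟨a1, a2, a3⟩ := T.co_inv hg
  obtain ⟨b1, b2, b3⟩ := T.co_inv hk
  refine T.ker _ (mul_mem (mul_mem hgk (inv_mem hg)) (inv_mem hk)) ?_ ?_ ?_
  · rw [T.ec_mul _ (mul_mem hgk (inv_mem hg)) _ (inv_mem hk), T.ec_mul _ hgk _ (inv_mem hg),
      T.ec_mul g hg k hk, a1, b1]
    linear_combination (T.ec g + T.ec k) * two_zero (L := L)
  · rw [T.xc_mul _ (mul_mem hgk (inv_mem hg)) _ (inv_mem hk), T.xc_mul _ hgk _ (inv_mem hg),
      T.xc_mul g hg k hk, a2, b2]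
    linear_combination (T.xc g + T.xc k) * two_zero (L := L)
  · rw [T.zc_mul _ (mul_mem hgk (inv_mem hg)) _ (inv_mem hk), T.zc_mul _ hgk _ (inv_mem hg),
      T.zc_mul g hg k hk, a3, b3]
    linear_combination (T.zc g + T.zc k) * two_zero (L := L)

/-- The commutator form. -/
theorem comm_eq {g k : G} (hg : g ∈ T.P) (hk : k ∈ T.P) :
    T.η (g * k * g⁻¹ * k⁻¹) = T.ec g * T.xc k + T.ec k * T.xc g + pol T.σ (T.zc g) (T.zc k) := by
  have hc := T.comm_mem hg hk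
  have h1 : g * k * (g * k) * (g * k * g⁻¹ * k⁻¹) = (g * g) * (k * k) * (g * k * g⁻¹ * k⁻¹) *
      (k * g * k⁻¹ * g⁻¹) := by
    have h2 : g * k * (g * k) = (k * g * k⁻¹ * g⁻¹) * ((g * g) * (k * k)) := by
      calc g * k * (g * k) = g * (k * g * k⁻¹ * g⁻¹) * (g * k) * k := by group
        _ = (k * g * k⁻¹ * g⁻¹) * g * (g * k) * k := by rw [(T.Ec hg (T.comm_mem hk hg)).eq]
        _ = _ := by group
    rw [h2, mul_assoc, (T.Ec (mul_mem (mul_mem (mul_mem hg hg) (mul_mem hk hk)) (T.E_le hc))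
      (T.comm_mem hk hg)).eq.symm]
  have h3 : g * k * g⁻¹ * k⁻¹ * (k * g * k⁻¹ * g⁻¹) = 1 := by group
  rw [mul_assoc _ (g * k * g⁻¹ * k⁻¹) (k * g * k⁻¹ * g⁻¹), h3, mul_one] at h1
  have h4 := congrArg T.η h1
  rw [T.eta_mul _ (T.sq_mem _ (mul_mem hg hk)) _ hc, T.eta_mul _ (T.sq_mem g hg) _ (T.sq_mem k hk),
    T.sq g hg, T.sq k hk, T.sq _ (mul_mem hg hk), T.ec_mul g hg k hk, T.xc_mul g hg k hk,
    T.zc_mul g hg k hk, T.lam_add _ _ (T.xc_fix g hg) (T.xc_fix k hk), nrm_add] at h4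
  refine eq_of_add_zero ?_
  linear_combination h4

theorem P_X : T.X ≤ T.P := T.mod.X_le

end Three

end CfsgLib.AschCrit.EndThree
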