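import Cfsg.Agent.Lib.Classical.Unitary.Field
import Mathlib.Algebra.CharP.Two
import Mathlib.Algebra.Algebra.ZMod
import Mathlib.FieldTheory.Finiteness

/-!
Owner: helper29. Aschbacher's criterion, end game of unitary type: the algebra in a field with an involution.

* `polar`, `semi_of_pol`: a map whose norm defect is additive is semilinear.
* `isometry_cases`, `semi_involution`: isometries; an involutory similitude fixes the norms.
* `square_map_zero`: a map `t ↦ l t²` commuting with a transitive set of semilinear maps is zero.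
* `invariant_top`: invariant subgroups.
* `alt_eq_zero`: no equivariant alternating map.
-/

set_option autoImplicit false
set_option linter.unusedSectionVars false
set_option linter.style.haveILetI false

namespace CfsgLib.AschCrit.EndThree

open CfsgLib.Classical.Herm

/-- The norm. -/
def nrm {L : Type*} [Field L] (σ : L →+* L) (z : L) : L := z * σ z

/-- The polar form of the norm. -/
def pol {L : Type*} [Field L] (σ : L →+* L) (z w : L) : L := z * σ w + σ z * w

section

variable {L : Type*} [Field L] [CharP L 2] {σ : L →+* L}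

theorem two_zero : (2 : L) = 0 := CharTwo.two_eq_zero

theorem eq_of_add_zero {x y : L} (h : x + y = 0) : x = y := CharTwo.add_eq_zero.1 h

theorem nrm_zero : nrm σ 0 = 0 := zero_mul _

theorem nrm_one : nrm σ 1 = 1 := by simp [nrm]

theorem nrm_eq_zero {z : L} : nrm σ z = 0 ↔ z = 0 := by
  unfold nrm
  rw [mul_eq_zero, IsInvol.apply_eq_zero_iff, or_self]

theorem nrm_mul (z w : L) : nrm σ (z * w) = nrm σ z * nrm σ w := by
  unfold nrm; rw [map_mul]; ring

theorem nrm_add (z w : L) : nrm σ (z + w) = nrm σ z + nrm σ w + pol σ z w := by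
  unfold nrm pol; rw [map_add]; ring

theorem pol_comm (z w : L) : pol σ z w = pol σ w z := by unfold pol; ring

theorem pol_self (z : L) : pol σ z z = 0 := by
  unfold pol; rw [mul_comm (σ z) z]; exact CharTwo.add_self_eq_zero _

theorem pol_zero_right (z : L) : pol σ z 0 = 0 := by simp [pol]

theorem pol_zero_left (z : L) : pol σ 0 z = 0 := by simp [pol]

theorem pol_add_right (z w w' : L) : pol σ z (w + w') = pol σ z w + pol σ z w' := by
  unfold pol; rw [map_add]; ring

theorem pol_add_left (z z' w : L) : pol σ (z + z') w = pol σ z w + pol σ z' w := by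
  unfold pol; rw [map_add]; ring

theorem pol_smul_left {t : L} (ht : σ t = t) (z w : L) : pol σ (t * z) w = t * pol σ z w := by
  unfold pol; rw [map_mul, ht]; ring

theorem pol_smul_right {t : L} (ht : σ t = t) (z w : L) : pol σ z (t * w) = t * pol σ z w := by
  unfold pol; rw [map_mul, ht]; ring

theorem nrm_smul {t : L} (ht : σ t = t) (z : L) : nrm σ (t * z) = t * t * nrm σ z := by
  unfold nrm; rw [map_mul, ht]; ring

theorem pol_one (z : L) : pol σ 1 z = σ z + z := by simp [pol]

variable (hσ : IsInvol σ)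
include hσ

theorem pol_fix (z w : L) : σ (pol σ z w) = pol σ z w := by
  unfold pol; rw [map_add, map_mul, map_mul, hσ.invol, hσ.invol]; ring

theorem nrm_fix (z : L) : σ (nrm σ z) = nrm σ z := hσ.norm_mem z

omit hσ in
theorem exists_scalar {z w : L} (hz : z ≠ 0) (h : pol σ z w = 0) : ∃ t : L, σ t = t ∧ w = t * z := by
  refine ⟨w / z, ?_, (div_mul_cancel₀ w hz).symm⟩
  have h' : z * σ w = σ z * w := eq_of_add_zero h
  rw [map_div₀, div_eq_div_iff ((map_ne_zero σ).2 hz) hz, mul_comm, h', mul_comm]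

omit hσ in
theorem fix_of_pol_one {z : L} (h : pol σ 1 z = 0) : σ z = z := by
  rw [pol_one] at h; exact eq_of_add_zero h

theorem exists_pol {z : L} (hz : z ≠ 0) {e : L} (he : σ e = e) : ∃ w, pol σ z w = e := by
  obtain ⟨x, hx⟩ := hσ.exists_trace_ne_zero
  have hT : σ (x + σ x) = x + σ x := hσ.trace_mem x
  have hn : nrm σ z ≠ 0 := fun h => hz (nrm_eq_zero.1 h)
  refine ⟨e / ((x + σ x) * nrm σ z) * (x * z), ?_⟩
  have hfix : σ (e / ((x + σ x) * nrm σ z)) = e / ((x + σ x) * nrm σ z) := by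
    rw [map_div₀, map_mul, he, hT, nrm_fix hσ]
  rw [pol_smul_right hfix]
  have : pol σ z (x * z) = (x + σ x) * nrm σ z := by unfold pol nrm; rw [map_mul]; ring
  rw [this, div_mul_cancel₀ _ (mul_ne_zero hx hn)]

/-! ### Semilinear maps of the fixed field -/

/-- A semilinear injective map of the fixed field. -/
structure Semi (σ : L →+* L) (g : L → L) : Prop where
  fix : ∀ e, σ e = e → σ (g e) = g e
  add : ∀ e f, σ e = e → σ f = f → g (e + f) = g e + g f
  inj : ∀ e, σ e = e → g e = 0 → e = 0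
  mul : ∀ t e, σ t = t → σ e = e → g (t * e) * g 1 = g t * g e

omit hσ in
theorem Semi.one_ne {g : L → L} (hg : Semi σ g) : g 1 ≠ 0 := fun h => one_ne_zero (hg.inj 1 (map_one σ) h)

omit hσ in
theorem Semi.zero {g : L → L} (hg : Semi σ g) : g 0 = 0 := by
  have h := hg.add 0 0 (map_zero σ) (map_zero σ)
  rwa [add_zero, left_eq_add] at h

/-- The automorphism of a semilinear map. -/
noncomputable def Semi.hom {g : L → L} (hg : Semi σ g) : fixedSub σ →+* fixedSub σ where
  toFun t := ⟨g t / g 1, by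
    show σ (g t / g 1) = g t / g 1
    rw [map_div₀, hg.fix _ t.2, hg.fix _ (map_one σ)]⟩
  map_one' := Subtype.ext (by simp [hg.one_ne])
  map_zero' := Subtype.ext (by simp [hg.zero])
  map_mul' t e := Subtype.ext (by
    show g ((t : L) * e) / g 1 = g t / g 1 * (g e / g 1)
    rw [div_mul_div_comm, div_eq_div_iff hg.one_ne (mul_ne_zero hg.one_ne hg.one_ne), ← hg.mul _ _ t.2 e.2]
    ring)
  map_add' t e := Subtype.ext (by
    show g ((t : L) + e) / g 1 = g t / g 1 + g e / g 1
    rw [← add_div, hg.add _ _ t.2 e.2])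

omit hσ in
theorem Semi.eq_hom {g : L → L} (hg : Semi σ g) (t : fixedSub σ) : g t = (hg.hom t : L) * g 1 :=
  (div_mul_cancel₀ _ hg.one_ne).symm

/-- A finite field with `2 ^ s` elements has at most `s` endomorphisms. -/
theorem card_end_le (K : Type*) [Field K] [CharP K 2] [Finite K] {s : ℕ} (hs : Nat.card K = 2 ^ s) :
    Nat.card (K →+* K) ≤ s := by
  haveI := Fact.mk Nat.prime_two
  letI : Algebra (ZMod 2) K := ZMod.algebra K 2
  haveI : Module.Finite (ZMod 2) K := Module.Finite.of_finite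
  have hd : Module.finrank (ZMod 2) K = s := by
    have h := Module.natCard_eq_pow_finrank (K := ZMod 2) (V := K)
    rw [hs, Nat.card_zmod] at h
    exact (Nat.pow_right_injective le_rfl h).symm
  rw [← hd]
  refine le_trans (Nat.card_le_card_of_injective
    (fun f : K →+* K => ({ f with commutes' := fun r => RingHom.congr_fun (RingHom.ext_zmod
      (f.comp (algebraMap (ZMod 2) K)) (algebraMap (ZMod 2) K)) r } : K →ₐ[ZMod 2] K))
    fun f g h => RingHom.ext fun x => AlgHom.congr_fun h x) ?_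
  rw [Nat.card_eq_fintype_card]
  exact AlgHom.card_le

variable [Finite L]

/-- Semilinear maps with different effect are at most `(q - 1) s` many. -/
theorem card_semi_le {s : ℕ} (hs : Nat.card (fixedSub σ) = 2 ^ s) {ι : Type*} (g : ι → L → L)
    (hg : ∀ i, Semi σ (g i)) (hinj : ∀ i j, (∀ e, σ e = e → g i e = g j e) → i = j) :
    Nat.card ι ≤ (2 ^ s - 1) * s := by
  haveI : CharP (fixedSub σ) 2 := (RingHom.charP_iff (fixedSub σ).subtype Subtype.val_injective 2).2 ‹_›
  haveI : Finite (fixedSub σ →+* fixedSub σ) := Finite.of_injective _ DFunLike.coe_injective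
  refine (Nat.card_le_card_of_injective
    (fun i => ((Units.mk0 (⟨g i 1, (hg i).fix 1 (map_one σ)⟩ : fixedSub σ)
      fun h => (hg i).one_ne (congrArg Subtype.val h)), (hg i).hom)) fun i j h => hinj i j fun e he => ?_).trans ?_
  · have h1 : g i 1 = g j 1 := congrArg (fun p : (fixedSub σ)ˣ × (fixedSub σ →+* fixedSub σ) =>
      ((p.1 : fixedSub σ) : L)) h
    have h2 := congrArg (fun p : (fixedSub σ)ˣ × (fixedSub σ →+* fixedSub σ) => ((p.2 ⟨e, he⟩ : fixedSub σ) : L)) h
    rw [(hg i).eq_hom ⟨e, he⟩, (hg j).eq_hom ⟨e, he⟩, h1]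
    exact congrArg (· * g j 1) h2
  · rw [Nat.card_prod, Nat.card_units, hs]
    exact Nat.mul_le_mul_left _ (card_end_le hσ _ hs)

/-- A map `t ↦ l t²` commuting with semilinear maps sending one to everything is zero. -/
theorem square_map_zero {s : ℕ} (hs : Nat.card (fixedSub σ) = 2 ^ s) (hs2 : 2 ≤ s) (lam : L → L) {l : L}
    (hl : σ l = l) (hlam : ∀ t, σ t = t → lam t = t * t * l)
    (hT : ∀ c, σ c = c → c ≠ 0 → ∃ g : L → L, Semi σ g ∧ g 1 = c ∧ ∀ e, σ e = e → g (lam e) = lam (g e)) :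
    l = 0 := by
  by_contra hl0
  haveI : CharP (fixedSub σ) 2 := (RingHom.charP_iff (fixedSub σ).subtype Subtype.val_injective 2).2 ‹_›
  haveI : Finite (fixedSub σ →+* fixedSub σ) := Finite.of_injective _ DFunLike.coe_injective
  choose g hg hg1 hgc using fun c : (fixedSub σ)ˣ => hT (c : fixedSub σ) (c : fixedSub σ).2
    (fun h => c.ne_zero (Subtype.ext h))
  have key : ∀ c : (fixedSub σ)ˣ, ((c : fixedSub σ) : L) * l = ((hg c).hom ⟨l, hl⟩ : L) := fun c => by
    have h := hgc c 1 (map_one σ)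
    rw [hlam 1 (map_one σ), one_mul, one_mul, (hg c).eq_hom ⟨l, hl⟩, hg1,
      hlam _ (c : fixedSub σ).2] at h
    have hc : ((c : fixedSub σ) : L) ≠ 0 := fun h => c.ne_zero (Subtype.ext h)
    exact (mul_right_cancel₀ hc (h.trans (by ring : _ = ((c : fixedSub σ) : L) * l * (c : fixedSub σ)))).symm
  have h1 : Nat.card (fixedSub σ)ˣ ≤ Nat.card (fixedSub σ →+* fixedSub σ) :=
    Nat.card_le_card_of_injective (fun c => (hg c).hom) fun c d h => Units.ext (Subtype.ext
      (mul_right_cancel₀ hl0 ((key c).trans ((congrArg (fun f : fixedSub σ →+* fixedSub σ =>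
        (f ⟨l, hl⟩ : L)) h).trans (key d).symm))))
  rw [Nat.card_units, hs] at h1
  have h2 := h1.trans (card_end_le hσ _ hs)
  have : ∀ n, 2 ≤ n → n + 2 ≤ 2 ^ n := fun n hn => by
    induction n, hn using Nat.le_induction with
    | base => norm_num
    | succ n _ ih => rw [pow_succ]; omega
  have := this s hs2
  omega

/-! ### Similitudes up to an additive defect -/

omit hσ in
/-- The polar form of a map whose norm defect is additive. -/
theorem polar (hσ : IsInvol σ) {M g : L → L} (hM : ∀ z w, M (z + w) = M z + M w)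
    (hg : ∀ e f, σ e = e → σ f = f → g (e + f) = g e + g f)
    (hD : ∀ z w, nrm σ (M (z + w)) + g (nrm σ (z + w)) =
      nrm σ (M z) + g (nrm σ z) + (nrm σ (M w) + g (nrm σ w))) (z w : L) :
    pol σ (M z) (M w) = g (pol σ z w) := by
  have h := hD z w
  rw [hM, nrm_add, nrm_add, hg _ _ (by rw [map_add, nrm_fix hσ, nrm_fix hσ]) (pol_fix hσ z w),
    hg _ _ (nrm_fix hσ z) (nrm_fix hσ w)] at h
  exact eq_of_add_zero (by linear_combination h)

/-- A map preserving the polar form up to `g` is semilinear. -/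
theorem semi_of_pol {M g : L → L} (hMi : Function.Injective M) (hM : ∀ z w, M (z + w) = M z + M w)
    (hgf : ∀ e, σ e = e → σ (g e) = g e) (hg : ∀ e f, σ e = e → σ f = f → g (e + f) = g e + g f)
    (hg0 : ∀ e, σ e = e → g e = 0 → e = 0) (hpol : ∀ z w, pol σ (M z) (M w) = g (pol σ z w)) :
    Semi σ g ∧ ∀ t z, σ t = t → M (t * z) * g 1 = g t * M z := by
  have hM0 : M 0 = 0 := by
    have h := hM 0 0
    rwa [add_zero, left_eq_add] at h
  have hne : ∀ z, z ≠ 0 → M z ≠ 0 := fun z hz h => hz (hMi (h.trans hM0.symm))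
  have hg00 : g 0 = 0 := by
    have h := hg 0 0 (map_zero σ) (map_zero σ)
    rwa [add_zero, left_eq_add] at h
  have hc : ∀ t z, σ t = t → z ≠ 0 → ∃ c, σ c = c ∧ M (t * z) = c * M z := fun t z ht hz =>
    exists_scalar (hne z hz) (by rw [hpol, pol_smul_right ht, pol_self, mul_zero, hg00])
  have heq : ∀ t z w c d, σ t = t → σ c = c → σ d = d → M (t * z) = c * M z → M (t * w) = d * M w →
      pol σ z w ≠ 0 → c = d := fun t z w c d ht hc hd hz hw hzw => by
    refine mul_right_cancel₀ (fun h => hzw (hg0 _ (pol_fix hσ z w) h) : g (pol σ z w) ≠ 0) ?_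
    calc c * g (pol σ z w) = pol σ (M (t * z)) (M w) := by rw [hz, pol_smul_left hc, hpol]
      _ = pol σ (M z) (M (t * w)) := by rw [hpol, hpol, pol_smul_left ht, pol_smul_right ht]
      _ = d * g (pol σ z w) := by rw [hw, pol_smul_right hd, hpol]
  obtain ⟨w₁, hw₁⟩ := exists_pol hσ one_ne_zero (map_one σ)
  have hw₁0 : w₁ ≠ 0 := fun h => one_ne_zero (α := L) (by rw [← hw₁, h, pol_zero_right])
  have hmain : ∀ t, σ t = t → ∃ c, σ c = c ∧ ∀ z, M (t * z) = c * M z := fun t ht => by
    obtain ⟨c, hcf, hc1⟩ := hc t 1 ht one_ne_zero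
    refine ⟨c, hcf, fun z => ?_⟩
    rcases eq_or_ne z 0 with rfl | hz
    · rw [mul_zero, hM0, mul_zero]
    obtain ⟨d, hdf, hd⟩ := hc t z ht hz
    suffices c = d by rw [this, hd]
    by_cases hp : pol σ 1 z = 0
    · obtain ⟨e, hef, he⟩ := hc t w₁ ht hw₁0
      obtain ⟨r, hr, hzr⟩ := exists_scalar one_ne_zero hp
      rw [mul_one] at hzr
      refine (heq t 1 w₁ c e ht hcf hef hc1 he (by rw [hw₁]; exact one_ne_zero)).trans
        (heq t z w₁ d e ht hdf hef hd he ?_).symm
      rw [hzr, ← mul_one r, pol_smul_left hr, hw₁, mul_one]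
      exact hzr ▸ hz
    · exact heq t 1 z c d ht hcf hdf hc1 hd hp
  have hsc : ∀ t c, σ t = t → σ c = c → (∀ z, M (t * z) = c * M z) → ∀ e, σ e = e → g (t * e) = c * g e := by
    intro t c ht hc hz e he
    obtain ⟨w, hw⟩ := exists_pol hσ one_ne_zero he
    rw [← hw, ← pol_smul_left ht, ← hpol, hz, pol_smul_left hc, hpol]
  refine ⟨⟨hgf, hg, hg0, fun t e ht he => ?_⟩, fun t z ht => ?_⟩ <;> obtain ⟨c, hcf, hz⟩ := hmain t ht
  · have h1 := hsc t c ht hcf hz 1 (map_one σ)
    rw [mul_one] at h1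
    rw [hsc t c ht hcf hz e he, h1]; ring
  · have h1 := hsc t c ht hcf hz 1 (map_one σ)
    rw [mul_one] at h1
    rw [hz, h1]; ring

/-- A defect `lam (pol z₀ (M z))` with `z₀ ≠ 0` at trivial scalars makes `lam` a square. -/
theorem linear_lam {M lam : L → L} {z₀ : L} (hMi : Function.Injective M) (hM : ∀ z w, M (z + w) = M z + M w)
    (hlam : ∀ e f, σ e = e → σ f = f → lam (e + f) = lam e + lam f) (hz₀ : z₀ ≠ 0)
    (hD : ∀ z, nrm σ (M z) + nrm σ z = lam (pol σ z₀ (M z))) :
    ∀ t, σ t = t → lam t = t * t * lam 1 := by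
  have hp := polar hσ (g := id) hM (fun _ _ _ _ => rfl) fun z w => by
    simp only [id_eq, hD]
    rw [hM, pol_add_right, hlam _ _ (pol_fix hσ _ _) (pol_fix hσ _ _)]
  obtain ⟨-, hlin⟩ := semi_of_pol hσ hMi hM (fun e he => he) (fun _ _ _ _ => rfl) (fun e _ h => h) hp
  intro t ht
  obtain ⟨w, hw⟩ := exists_pol hσ hz₀ (map_one σ)
  obtain ⟨z, rfl⟩ := (Finite.injective_iff_surjective.1 hMi) w
  have h := hD (t * z)
  have hl := hlin t z ht
  simp only [mul_one] at hl
  rw [hl, pol_smul_right ht, hw, mul_one, nrm_smul ht, nrm_smul ht, ← mul_add, hD, hw] at h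
  exact h.symm

/-- An isometry is a rotation or a reflection. -/
theorem isometry_cases {M : L → L} (hM : ∀ z w, M (z + w) = M z + M w) (hN : ∀ z, nrm σ (M z) = nrm σ z) :
    ∃ m, nrm σ m = 1 ∧ ((∀ z, M z = m * z) ∨ ∀ z, M z = m * σ z) := by
  have hp : ∀ z w, pol σ (M z) (M w) = pol σ z w :=
    polar hσ (g := id) hM (fun _ _ _ _ => rfl) fun z w => by
      simp only [id_eq, hN, CharTwo.add_self_eq_zero]
  set m := M 1 with hm
  have hm1 : nrm σ m = 1 := by rw [hm, hN, nrm_one]
  have hcase : ∀ z, M z = m * z ∨ M z = m * σ z := fun z => by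
    have h1 : pol σ m (M z) = σ z + z := by rw [hp, pol_one]
    have h2 : M z * σ (M z) = z * σ z := hN z
    have h3 : (M z + m * z) * (M z + m * σ z) = 0 := by
      unfold pol at h1
      unfold nrm at hm1
      linear_combination (m * M z) * h1 + (-(m * m)) * h2 + (-(M z * M z)) * hm1 +
        (m * M z * (σ z + z)) * two_zero (L := L)
    rcases mul_eq_zero.1 h3 with h | h
    · exact Or.inl (eq_of_add_zero h)
    · exact Or.inr (eq_of_add_zero h)
  refine ⟨m, hm1, ?_⟩
  by_contra hcon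
  push Not at hcon
  obtain ⟨⟨z₁, h₁⟩, z₂, h₂⟩ := hcon
  have e₁ := (hcase z₁).resolve_left h₁
  have e₂ := (hcase z₂).resolve_right h₂
  rcases hcase (z₁ + z₂) with h | h
  · rw [hM, e₁, e₂, mul_add] at h
    exact h₁ (e₁.trans (add_right_cancel h))
  · rw [hM, e₁, e₂, map_add, mul_add] at h
    exact h₂ (e₂.trans (add_left_cancel h))

/-- An involutory similitude preserves all norms. -/
theorem semi_involution {M g : L → L} (hM : ∀ z w, M (z + w) = M z + M w) (hM2 : ∀ z, M (M z) = z)
    (hgf : ∀ e, σ e = e → σ (g e) = g e) (hg : ∀ e f, σ e = e → σ f = f → g (e + f) = g e + g f)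
    (hN : ∀ z, nrm σ (M z) = g (nrm σ z)) : ∀ e, σ e = e → g e = e := by
  have hMi : Function.Injective M := Function.LeftInverse.injective hM2
  have hg0 : ∀ e, σ e = e → g e = 0 → e = 0 := fun e he h => by
    obtain ⟨z, rfl⟩ := hσ.exists_norm_eq he
    have h1 : nrm σ (M z) = 0 := by rw [hN]; exact h
    rw [show z = 0 from hMi ((nrm_eq_zero.1 h1).trans (by
      have h := hM 0 0; rw [add_zero, left_eq_add] at h; exact h.symm)), zero_mul]
  have hp : ∀ z w, pol σ (M z) (M w) = g (pol σ z w) := polar hσ hM hg fun z w => by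
    simp only [hN, CharTwo.add_self_eq_zero]
  obtain ⟨hS, hlin⟩ := semi_of_pol hσ hMi hM hgf hg hg0 hp
  set m := M 1 with hm
  have hm0 : m ≠ 0 := fun h => hS.one_ne (by rw [← nrm_one (σ := σ), ← hN, ← hm, h, nrm_zero])
  have hg1 : g 1 = nrm σ m := by rw [hm, hN, nrm_one]
  let f : L → L := fun z => M z / m
  have hf1 : f 1 = 1 := div_self hm0
  have hfadd : ∀ z w, f (z + w) = f z + f w := fun z w => by simp only [f, hM, add_div]
  have hfsc : ∀ t z, σ t = t → f (t * z) = f t * f z := fun t z ht => by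
    have h1 := hlin t z ht
    have h2 := hlin t 1 ht
    rw [mul_one, ← hm] at h2
    simp only [f]
    rw [div_mul_div_comm, div_eq_div_iff hm0 (mul_ne_zero hm0 hm0)]
    refine mul_right_cancel₀ hS.one_ne ?_
    linear_combination (m * m) * h1 - (M z * m) * h2
  have hgt : ∀ t, σ t = t → g t = f t * g 1 := fun t ht => by
    have h2 := hlin t 1 ht
    rw [mul_one, ← hm] at h2
    simp only [f]
    field_simp
    linear_combination -h2
  have hfsq : ∀ z, f (z * z) = f z * f z := fun z => by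
    have hT : σ (σ z + z) = σ z + z := by rw [map_add, hσ.invol, add_comm]
    have e : z * z = (σ z + z) * z + nrm σ z * 1 := by
      unfold nrm; linear_combination (-(z * σ z)) * two_zero (L := L)
    rw [e, hfadd, hfsc _ _ hT, hfsc _ _ (nrm_fix hσ z), hf1, mul_one]
    have hMf : ∀ x, M x = m * f x := fun x => (mul_div_cancel₀ (M x) hm0).symm
    have hn : nrm σ m ≠ 0 := fun h => hm0 (nrm_eq_zero.1 h)
    have a1 : f (σ z + z) = σ (f z) + f z := by
      have h := hp 1 z
      rw [pol_one, hgt _ hT, hg1, ← hm, hMf z] at h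
      refine mul_right_cancel₀ hn (h.symm.trans ?_)
      unfold pol nrm; rw [map_mul]; ring
    have a2 : f (nrm σ z) = nrm σ (f z) := by
      have h := hN z
      rw [hgt _ (nrm_fix hσ z), hg1, hMf z, nrm_mul] at h
      exact mul_right_cancel₀ hn (h.symm.trans (mul_comm _ _))
    rw [a1, a2]
    unfold nrm
    linear_combination (σ (f z) * f z) * two_zero (L := L)
  have hfmul : ∀ z w, f (z * w) = f z * f w := fun z w => by
    by_cases hzf : σ z = z
    · exact hfsc z w hzf
    have hp0 : pol σ 1 z ≠ 0 := fun h => hzf (fix_of_pol_one h)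
    set b := pol σ 1 w / pol σ 1 z with hb
    have hbf : σ b = b := by rw [hb, map_div₀, pol_fix hσ, pol_fix hσ]
    set a := w + b * z with ha
    have haf : σ a = a := fix_of_pol_one (by
      rw [ha, pol_add_right, pol_smul_right hbf, hb, div_mul_cancel₀ _ hp0, CharTwo.add_self_eq_zero])
    have hw : w = a + b * z := by rw [ha, add_assoc, CharTwo.add_self_eq_zero, add_zero]
    rw [hw, mul_add, hfadd, hfadd, show z * (b * z) = b * (z * z) by ring, mul_comm z a, hfsc _ _ haf,
      hfsc _ _ hbf, hfsc _ _ hbf, hfsq]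
    ring
  let Φ : L →+* L :=
    { toFun := f
      map_one' := hf1
      map_mul' := hfmul
      map_zero' := by
        have h := hfadd 0 0
        rwa [add_zero, left_eq_add] at h
      map_add' := hfadd }
  have hMΦ : ∀ z, M z = m * Φ z := fun z => (mul_div_cancel₀ (M z) hm0).symm
  have hmm : m * Φ m = 1 := by rw [← hMΦ, hm, hM2]
  have hΦ2 : ∀ z, Φ (Φ z) = z := fun z => by
    have h := hM2 z
    rw [hMΦ z, hMΦ, map_mul, ← mul_assoc, hmm, one_mul] at h
    exact h
  have hΦfix : ∀ e, σ e = e → Φ e = e := fun e he => by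
    by_cases hid : Φ = RingHom.id L
    · rw [hid, RingHom.id_apply]
    have hI : IsInvol Φ := ⟨hid, hΦ2⟩
    have hc : Nat.card (fixedSub Φ) = Nat.card (fixedSub σ) :=
      Nat.pow_left_injective two_ne_zero (hI.card_sq.symm.trans hσ.card_sq)
    rw [hI.apply_eq_pow, hc, ← hσ.apply_eq_pow, he]
  have hgc : ∀ e, σ e = e → g e = e * g 1 := fun e he => by
    rw [hgt e he]; exact congrArg (· * g 1) (hΦfix e he)
  intro e he
  have h1f : σ (g 1) = g 1 := hgf 1 (map_one σ)
  have h11 : g (g 1) = 1 := by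
    have h := hN m
    rw [hm, hM2, ← hm, nrm_one, ← hg1] at h
    exact h.symm
  rw [hgc _ h1f] at h11
  rw [hgc e he, show g 1 = 1 from eq_of_add_zero (pow_eq_zero_iff two_ne_zero |>.1
    (show (g 1 + 1) ^ 2 = 0 by linear_combination h11 + (g 1 + 1) * two_zero (L := L))), mul_one]

omit hσ in
theorem nrm_inv (z : L) : nrm σ z⁻¹ = (nrm σ z)⁻¹ := by unfold nrm; rw [map_inv₀, mul_inv]

/-- A subgroup invariant under a rotation and a group transitive on the norms is zero or everything. -/
theorem invariant_top {s : ℕ} (hs : Nat.card (fixedSub σ) = 2 ^ s) (hs2 : 2 ≤ s) (I : AddSubgroup L)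
    {m : L} (hm : nrm σ m = 1) (hm1 : m ≠ 1) (hmI : ∀ z ∈ I, m * z ∈ I)
    (hT : ∀ e f, σ e = e → σ f = f → e ≠ 0 → f ≠ 0 →
      ∃ M : L → L, Function.Injective M ∧ (∀ z ∈ I, M z ∈ I) ∧ ∀ z, nrm σ z = e → nrm σ (M z) = f) :
    I = ⊥ ∨ I = ⊤ := by
  classical
  rcases I.bot_or_exists_ne_zero with h | ⟨z₀, hz₀, hz₀0⟩
  · exact Or.inl h
  right
  set q := Nat.card (fixedSub σ) with hq
  haveI : Fintype {e : fixedSub σ // e ≠ 0} := Fintype.ofFinite _
  set e₀ := nrm σ z₀
  have he₀0 : e₀ ≠ 0 := fun h => hz₀0 (nrm_eq_zero.1 h)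
  set k := Nat.card {x : L // x ∈ I ∧ nrm σ x = e₀} with hk
  have hsame : ∀ e : {e : fixedSub σ // e ≠ 0}, Nat.card {x : L // x ∈ I ∧ nrm σ x = (e.1 : L)} = k := by
    intro e
    have he0 : (e.1 : L) ≠ 0 := fun h => e.2 (Subtype.ext h)
    refine le_antisymm ?_ ?_
    · obtain ⟨M, hMi, hMI, hMn⟩ := hT _ e₀ e.1.2 (nrm_fix hσ z₀) he0 he₀0
      exact Nat.card_le_card_of_injective (fun x => ⟨M x.1, hMI _ x.2.1, hMn _ x.2.2⟩)
        fun x y h => Subtype.ext (hMi (congrArg Subtype.val h))
    · obtain ⟨M, hMi, hMI, hMn⟩ := hT e₀ _ (nrm_fix hσ z₀) e.1.2 he₀0 he0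
      exact Nat.card_le_card_of_injective (fun x => ⟨M x.1, hMI _ x.2.1, hMn _ x.2.2⟩)
        fun x y h => Subtype.ext (hMi (congrArg Subtype.val h))
  have e1 : Nat.card {x : I // x ≠ 0} = (q - 1) * k := by
    have hn1 : Nat.card {e : fixedSub σ // e ≠ 0} = q - 1 := by
      rw [← Nat.card_congr (unitsEquivNeZero (G₀ := fixedSub σ)), Nat.card_units]
    rw [Nat.card_congr (Equiv.sigmaFiberEquiv (fun x : {x : I // x ≠ 0} => (⟨⟨nrm σ (x.1 : L), nrm_fix hσ _⟩,
      fun h => x.2 (Subtype.ext (nrm_eq_zero.1 (congrArg Subtype.val h)))⟩ : {e : fixedSub σ // e ≠ 0}))).symm,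
      Nat.card_sigma, Finset.sum_congr rfl fun e _ => ?_, Finset.sum_const, Finset.card_univ,
      ← Nat.card_eq_fintype_card, hn1, smul_eq_mul]
    rw [← hsame e]
    exact Nat.card_congr
      { toFun := fun x => ⟨(x.1.1 : L), x.1.1.2, congrArg (fun p : {e : fixedSub σ // e ≠ 0} => (p.1 : L)) x.2⟩
        invFun := fun x => ⟨⟨⟨x.1, x.2.1⟩, fun h => e.2 (Subtype.ext (by
          rw [← x.2.2, show x.1 = 0 from congrArg Subtype.val h, nrm_zero]; rfl))⟩,
          Subtype.ext (Subtype.ext x.2.2)⟩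
        left_inv := fun x => rfl
        right_inv := fun x => rfl }
  have e2 : Nat.card I = Nat.card {x : I // x ≠ 0} + 1 := by
    rw [← Finite.card_option, Nat.card_congr (Equiv.optionSubtypeNe (0 : I))]
  have hk3 : 3 ≤ k := by
    have hm2 : m * m ≠ 1 := fun h => hm1 (eq_of_add_zero (pow_eq_zero_iff two_ne_zero |>.1
      (show (m + 1) ^ 2 = 0 by linear_combination h + (m + 1) * two_zero (L := L))))
    have hm0 : m ≠ 0 := fun h => by rw [h, nrm_zero] at hm; exact zero_ne_one hm
    rw [hk, show 3 = Nat.card (Fin 3) by simp]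
    refine Nat.card_le_card_of_injective (fun i : Fin 3 => ⟨m ^ (i : ℕ) * z₀, ?_⟩) ?_
    · fin_cases i
      · simpa [e₀] using hz₀
      · refine ⟨by simpa using hmI _ hz₀, ?_⟩
        simp [nrm_mul, hm, e₀]
      · refine ⟨by simpa [pow_two, mul_assoc] using hmI _ (hmI _ hz₀), ?_⟩
        simp [pow_two, nrm_mul, hm, e₀]
    · intro i j h
      have h' : m ^ (i : ℕ) = m ^ (j : ℕ) := mul_right_cancel₀ hz₀0 (congrArg Subtype.val h)
      fin_cases i <;> fin_cases j <;> simp [pow_two] at h' ⊢ <;>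
        first
          | exact hm1 h' | exact hm1 h'.symm | exact hm2 h' | exact hm2 h'.symm
          | exact (h'.elim hm1 hm0)
          | exact hm1 (mul_left_cancel₀ hm0 (by rw [mul_one]; first | exact h' | exact h'.symm))
  haveI := Fact.mk Nat.prime_two
  have hL : Nat.card L = 2 ^ (s * 2) := by rw [hσ.card_sq, ← hq, hs, pow_mul]
  obtain ⟨j, hj, hIj⟩ := (Nat.dvd_prime_pow Nat.prime_two).1 (hL ▸ AddSubgroup.card_addSubgroup_dvd_card I)
  rw [hIj, e1, hs] at e2
  have hq4 : 4 ≤ 2 ^ s := Nat.pow_le_pow_right (n := 2) two_pos hs2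
  have hk1 : 3 * (2 ^ s - 1) ≤ (2 ^ s - 1) * k := by rw [mul_comm]; exact Nat.mul_le_mul_left _ hk3
  have hsj : s < j := by
    by_contra hle
    have := Nat.pow_le_pow_right (n := 2) two_pos (not_lt.1 hle)
    omega
  have hdvd : 2 ^ s - 1 ∣ 2 ^ (j - s) - 1 := by
    have h1 : 2 ^ j = (2 ^ s - 1) * 2 ^ (j - s) + 2 ^ (j - s) := by
      rw [Nat.sub_one_mul, Nat.sub_add_cancel (Nat.le_mul_of_pos_left _ (by positivity)), ← pow_add,
        Nat.add_sub_cancel' hsj.le]
    have h2 : 2 ^ s - 1 ∣ (2 ^ s - 1) * 2 ^ (j - s) + (2 ^ (j - s) - 1) := ⟨k, by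
      have := Nat.one_le_two_pow (n := j - s); omega⟩
    exact (Nat.dvd_add_right (dvd_mul_right _ _)).1 h2
  have h3 : 1 < 2 ^ (j - s) := Nat.one_lt_two_pow (by omega)
  have h4 := Nat.le_of_dvd (by omega) hdvd
  have h5 : s ≤ j - s := (Nat.pow_le_pow_iff_right (by norm_num : 1 < 2)).1 (by omega : 2 ^ s ≤ 2 ^ (j - s))
  refine AddSubgroup.eq_top_of_le_card I ?_
  rw [hL, hIj]
  exact Nat.pow_le_pow_right two_pos (by omega)

end

/-- No alternating map is equivariant under an odd cyclic group transitive on the nonzero elements. -/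
theorem alt_eq_zero {V : Type*} [AddCommGroup V] (h2 : ∀ x : V, x + x = 0) (c : V →+ V)
    (hgen : ∀ x y : V, x ≠ 0 → y ≠ 0 → ∃ j : ℕ, c^[j] x = y) {n : ℕ} (hn : Odd n) (hcn : ∀ x, c^[n] x = x)
    (μ : V → V → V) (hl : ∀ x y z, μ (x + y) z = μ x z + μ y z) (hr : ∀ x y z, μ x (y + z) = μ x y + μ x z)
    (halt : ∀ x, μ x x = 0) (hc : ∀ x y, μ (c x) (c y) = c (μ x y)) : ∀ x y, μ x y = 0 := by
  have hci : ∀ i x y, μ (c^[i] x) (c^[i] y) = c^[i] (μ x y) := by
    intro i
    induction i with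
    | zero => intros; rfl
    | succ i ih => intro x y; simp only [Function.iterate_succ_apply']; rw [hc, ih]
  have hr0 : ∀ x, μ x 0 = 0 := fun x => by simpa using hr x 0 0
  have hl0 : ∀ x, μ 0 x = 0 := fun x => by simpa using hl 0 0 x
  have hca : ∀ i x y, c^[i] (x + y) = c^[i] x + c^[i] y := fun i => by
    induction i with
    | zero => intros; rfl
    | succ i ih => intro x y; simp only [Function.iterate_succ_apply']; rw [ih, map_add]
  have hcc : ∀ i j x, c^[i] (c^[j] x) = c^[j] (c^[i] x) := fun i j x => by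
    rw [← Function.iterate_add_apply, ← Function.iterate_add_apply, add_comm]
  intro v
  by_cases hv : v = 0
  · intro y; rw [hv, hl0]
  -- the diagonal twisted by `c^[j]` is additive
  have hadd : ∀ j x y, μ (x + y) (c^[j] (x + y)) = μ x (c^[j] x) + μ y (c^[j] y) := by
    intro j
    have hrep : ∀ x, x ≠ 0 → ∃ i, c^[i] v = x := fun x hx => hgen v x hv hx
    by_cases hf : μ v (c^[j] v) = 0
    · have hz : ∀ x, μ x (c^[j] x) = 0 := fun x => by
        by_cases hx : x = 0
        · rw [hx, hl0]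
        obtain ⟨i, rfl⟩ := hrep x hx
        rw [hcc j i, hci, hf]
        clear hx
        induction i with
        | zero => rfl
        | succ i ih => rw [Function.iterate_succ_apply', ih, map_zero]
      intro x y; rw [hz, hz, hz, add_zero]
    · obtain ⟨m, hm⟩ := hgen v _ hv hf
      have hz : ∀ x, μ x (c^[j] x) = c^[m] x := fun x => by
        by_cases hx : x = 0
        · subst hx
          have := hca m 0 0
          rw [add_zero, left_eq_add] at this
          rw [hl0, this]
        obtain ⟨i, rfl⟩ := hrep x hx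
        rw [hcc j i, hci, ← hm, hcc m i]
      intro x y; rw [hz, hz, hz, hca]
  have hsym : ∀ x y, μ x y = μ y x := fun x y => by
    have h := halt (x + y)
    rw [hl, hr, hr, halt, halt, zero_add, add_zero] at h
    rw [eq_comm, ← add_right_inj (μ x y), h, h2]
  have hmove : ∀ j x, μ v (c^[j] x) = μ (c^[j] v) x := fun j x => by
    have h := hadd j v x
    rw [hca, hl, hr, hr] at h
    have h' : μ v (c^[j] x) + μ x (c^[j] v) = 0 := by
      calc μ v (c^[j] x) + μ x (c^[j] v)
          = (μ v (c^[j] v) + μ v (c^[j] x) + (μ x (c^[j] v) + μ x (c^[j] x))) -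
            (μ v (c^[j] v) + μ x (c^[j] x)) := by abel
        _ = 0 := by rw [h, sub_self]
    rw [hsym (c^[j] v) x, ← add_left_inj (μ x (c^[j] v)), h', h2]
  intro y
  by_cases hy : y = 0
  · rw [hy, hr0]
  obtain ⟨i, rfl⟩ := hgen v y hv hy
  obtain ⟨t, ht⟩ := hn
  -- `c^[i] v` is the image of an even power
  have heven : c^[i] v = c^[i * (t + 1)] (c^[i * (t + 1)] v) := by
    rw [← Function.iterate_add_apply, show i * (t + 1) + i * (t + 1) = i + i * n by rw [ht]; ring,
      Function.iterate_add_apply]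
    congr 1
    clear hy
    induction i with
    | zero => simp
    | succ i ih => rw [Nat.succ_mul, Function.iterate_add_apply, hcn, ← ih]
  rw [heven, hmove, halt]

end CfsgLib.AschCrit.EndThree
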