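import Cfsg.Agent.Lib.Invol.AschCrit.EndThree.Zero

/-!
Owner: helper29. Aschbacher's criterion, end game of unitary type: `C(E)` cannot fix the class of `u`.
-/

set_option autoImplicit false
set_option linter.unusedSectionVars false
set_option linter.style.haveILetI false

namespace CfsgLib.AschCrit.EndThree

open Subgroup MulAction CfsgLib.Classical.Herm

universe u

variable {G : Type u} [Group G] [Finite G] {Ω : Type u} [MulAction G Ω]

namespace Three

variable {D : Set G} {L : Type} [Field L] [Finite L] [CharP L 2] (T : Three Ω D L)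
include T

/-- If `C(E)` fixes the first coordinate of `u`, so does the whole normaliser. -/
theorem x0_nor (hn : ¬ T.q ^ 6 ∣ Nat.card Ω - 1) (hx : ∀ g ∈ T.n1, T.x0 g = 0) {g : G} (hg : g ∈ T.nor) :
    T.x0 g = 0 := by
  by_contra hg0
  rcases T.one_lam_cases with hlam | hlam
  swap
  · have h := T.sq_u hg
    rw [T.z0_nor hn hg, nrm_zero, add_zero] at h
    exact hg0 (hlam _ (T.x0_fix hg) h)
  obtain ⟨t, ht, -, htx, htz, htr⟩ := T.exists_torus
  have hall : ∀ x : fixedSub T.σ, ∃ k ∈ T.nor, T.x0 k = x := by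
    intro x
    rcases eq_or_ne x 0 with rfl | hx0
    · exact ⟨1, one_mem _, T.x0_one⟩
    obtain ⟨j, hj⟩ := htr _ _ (T.x0_fix hg) x.2 hg0 (fun h => hx0 (Subtype.ext h))
    obtain ⟨hj1, hj2, hj3⟩ := pow_mem (T.mem_fix0.2 ⟨ht, htx, htz⟩) j
    exact ⟨t ^ j * g, mul_mem hj1 hg, by rw [T.x0_conj hj1 hg, hj2, hj3, pol_zero_left, zero_add, add_zero, hj]⟩
  choose f hf hfx using hall
  refine T.spread_absurd f ht htr (fun x e he => T.nor_E (hf x) he)
    (fun x p hp => ⟨T.nor_conj (hf x) hp.1, by rw [T.ec_conj (hf x) hp.1, hp.2]⟩) fun x y i j hij => ?_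
  have hti := pow_mem ht i
  have htj := pow_mem ht j
  have hgx : f x * t ^ i ∈ T.nor := mul_mem (hf x) hti
  have hgy : f y * t ^ j ∈ T.nor := mul_mem (hf y) htj
  set k := (f y * t ^ j)⁻¹ * (f x * t ^ i) with hk
  have hkn : k ∈ T.nor := mul_mem (inv_mem hgy) hgx
  have he : f y * t ^ j * k = f x * t ^ i := by rw [hk, mul_inv_cancel_left]
  have hk1 : k ∈ T.n1 := T.mem_n1.2 ⟨hkn, T.cent_of_gam (fun e he => T.nor_E hkn he) fun e he' => by
    have h := T.gam_conj hgy hkn he'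
    rw [he, hij e he'] at h
    refine eq_of_add_zero ((T.gam_semi hgy).inj _ (by rw [map_add, T.gam_fix hkn he', he']) ?_)
    rw [(T.gam_semi hgy).add _ _ (T.gam_fix hkn he') he', ← h, CharTwo.add_self_eq_zero]⟩
  have h := T.x0_conj hgy hkn
  rw [he, hx k hk1, T.z0_nor hn hgy, pol_zero_left, T.gam_zero hgy, add_zero, add_zero,
    T.x0_conj (hf x) hti, T.x0_conj (hf y) htj, T.z0_nor hn (hf x), T.z0_nor hn (hf y),
    (pow_mem (T.mem_fix0.2 ⟨ht, htx, htz⟩) i).2.1, (pow_mem (T.mem_fix0.2 ⟨ht, htx, htz⟩) j).2.1,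
    T.gam_zero (hf x), T.gam_zero (hf y), pol_zero_left, pol_zero_left, add_zero, add_zero, add_zero,
    add_zero, hfx, hfx] at h
  exact Subtype.ext h

/-- The case where `C(E)` fixes the class of `u`. -/
theorem fixed_absurd (htop : Subgroup.closure D = ⊤) (hn : ¬ T.q ^ 6 ∣ Nat.card Ω - 1)
    (hx : ∀ g ∈ T.n1, T.x0 g = 0) : False := by
  refine T.transfer_kill htop T.P T.PX T.mod.two (fun g hg => T.fix_a hg) ?_ T.relIndex_PX
    fun w hw hm => T.no_multi hw.1 hw.2 hm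
  intro K hK hPK hKa g hg hgP
  have hgn : g ∈ T.nor := T.mem_nor (hKa g hg) hgP
  have hg0 : g ∈ T.fix0 := T.mem_fix0.2 ⟨hgn, T.x0_nor hn hx hgn, T.z0_nor hn hgn⟩
  have hK' : K ⊓ T.n1 ⊓ T.fix0 = T.P := T.fixed_le _ (hK.to_le (inf_le_left.trans inf_le_left))
    (le_inf (le_inf hPK T.P_le_n1) fun p hp => (T.P_act hp).1) (inf_le_left.trans inf_le_right) inf_le_right
  obtain ⟨m, hm⟩ := hK ⟨g, hg⟩
  have hcent := T.gam_one_of_two hg0 (n := m) (congrArg Subtype.val hm) fun j hj => by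
    have hjn : g ^ j ∈ T.n1 := T.mem_n1.2 ⟨pow_mem hgn j,
      T.cent_of_gam (fun e he => T.nor_E (pow_mem hgn j) he) hj⟩
    have hjP : g ^ j ∈ T.P := hK' ▸ (⟨⟨pow_mem hg j, hjn⟩, pow_mem hg0 j⟩ : g ^ j ∈ K ⊓ T.n1 ⊓ T.fix0)
    exact (T.P_act hjP).2
  exact hK' ▸ (⟨⟨hg, T.mem_n1.2 ⟨hgn, hcent⟩⟩, hg0⟩ : g ∈ K ⊓ T.n1 ⊓ T.fix0)

end Three

end CfsgLib.AschCrit.EndThree
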