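import Cfsg.Agent.Lib.Invol.AschCrit.EndThree.Moving

/-!
Owner: helper29. Aschbacher's criterion, end game of unitary type: a hyperplane of `S` without multis.

* `Three.Moving.hyper`: the elements acting on the class and on `X` as some `[n, k]`; it has index two and
  does not contain `u`.
* `Three.Moving.hyper_comm`: its commutators lie in `E`.
* `Three.Moving.hyper_no_multi`: it has no multi.
-/

set_option autoImplicit false
set_option linter.unusedSectionVars false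
set_option linter.style.haveILetI false

namespace CfsgLib.AschCrit.EndThree

open Subgroup MulAction CfsgLib.Classical.Herm

universe u

variable {G : Type u} [Group G] [Finite G] {Ω : Type u} [MulAction G Ω]

namespace Three

namespace Moving

variable {D : Set G} {L : Type} [Field L] [Finite L] [CharP L 2] {T : Three Ω D L} {S : Subgroup G} {n : G}
  (M : T.Moving S n)
include M

/-- The action on the class of `u` and on `X`. -/
noncomputable def phi : S →* Multiplicative (L × (T.X → L)) :=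
  MonoidHom.mk' (fun g => Multiplicative.ofAdd (T.x0 g, fun x : T.X => T.η ((g : G) * x * (g : G)⁻¹ * (x : G)⁻¹)))
    fun g k => by
      rw [← ofAdd_add]
      congr 1
      refine Prod.ext (M.x0_mul g.2 (T.n1_le (M.le_n1 k.2))) (funext fun x => ?_)
      have hx : (x : G) ∈ T.PX := ⟨T.mod.X_le x.2, ((T.X_iff _).1 x.2).2.1⟩
      have hg := M.act g.2 hx
      have hk := M.act k.2 hx
      show T.η ((g : G) * k * x * ((g : G) * k)⁻¹ * (x : G)⁻¹) =
        T.η ((g : G) * x * (g : G)⁻¹ * (x : G)⁻¹) + T.η ((k : G) * x * (k : G)⁻¹ * (x : G)⁻¹)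
      rw [← T.eta_mul _ hg _ hk, show (g : G) * k * x * ((g : G) * k)⁻¹ * (x : G)⁻¹ =
        (g : G) * ((k : G) * x * (k : G)⁻¹ * (x : G)⁻¹) * (g : G)⁻¹ * ((g : G) * x * (g : G)⁻¹ * (x : G)⁻¹) by group,
        ((T.mem_n1.1 (M.le_n1 g.2)).2 _ hk).eq, mul_inv_cancel_right, T.fr.data.comm _ hk _ hg]

theorem phi_x0 {g k : S} (h : M.phi g = M.phi k) : T.x0 g = T.x0 k :=
  congrArg (fun z : Multiplicative (L × (T.X → L)) => (Multiplicative.toAdd z).1) h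

/-- `phi` is trivial exactly on `X Q`. -/
theorem phi_eq_one {g : S} : M.phi g = 1 ↔ (g : G) ∈ T.PX := by
  constructor
  · intro h
    have h0 : T.x0 g = 0 := congrArg (fun z : Multiplicative (L × (T.X → L)) => (Multiplicative.toAdd z).1) h
    have hP := M.mem_P g.2 h0
    obtain ⟨x, hx, x1, x2, x3⟩ := T.onto 1 0 (map_one _)
    have h1 := congrArg (fun z : Multiplicative (L × (T.X → L)) =>
      (Multiplicative.toAdd z).2 ⟨x, (T.X_iff x).2 ⟨hx, x1, x3⟩⟩) h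
    have h2 : T.η ((g : G) * x * (g : G)⁻¹ * x⁻¹) = 0 := h1
    rw [T.comm_eq hP hx, x1, x2, x3, pol_zero_right, mul_one, zero_mul, add_zero, add_zero] at h2
    exact ⟨hP, h2⟩
  · intro h
    refine congrArg Multiplicative.ofAdd (Prod.ext (T.P_act h.1).1.2.1 (funext fun x => ?_))
    obtain ⟨hx, x1, x3⟩ := (T.X_iff _).1 x.2
    show T.η _ = 0
    rw [T.comm_eq h.1 hx, h.2, x1, x3, pol_zero_right, zero_mul, zero_mul, add_zero, add_zero]

/-- Conjugation by the torus on `S`. -/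
noncomputable def conjN : S →* S :=
  MonoidHom.mk' (fun g => ⟨n * g * n⁻¹, M.n_norm g g.2⟩) fun g k =>
    Subtype.ext (by show n * ((g : G) * k) * n⁻¹ = n * g * n⁻¹ * (n * k * n⁻¹); group)

/-- `k ↦ [n, k]`. -/
noncomputable def kap : S →* Multiplicative (L × (T.X → L)) := (M.phi.comp M.conjN) * M.phi

/-- The hyperplane. -/
noncomputable def hyper : Subgroup G := (M.kap.range.comap M.phi).map S.subtype

theorem hyper_le : M.hyper ≤ S := map_subtype_le _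

theorem mem_hyper {g : S} : (g : G) ∈ M.hyper ↔ ∃ k : S, M.phi g = M.phi (M.conjN k * k) := by
  constructor
  · rintro ⟨g', ⟨k, hk⟩, he⟩
    obtain rfl : g' = g := Subtype.ext he
    exact ⟨k, by rw [map_mul]; exact hk.symm⟩
  · rintro ⟨k, hk⟩
    exact ⟨g, ⟨k, by rw [hk, map_mul]; rfl⟩, rfl⟩

theorem hyper_conj {g : G} (hg : g ∈ M.hyper) : n * g * n⁻¹ ∈ M.hyper := by
  obtain ⟨k, hk⟩ := M.mem_hyper (g := ⟨g, M.hyper_le hg⟩) |>.1 hg
  refine M.mem_hyper (g := M.conjN ⟨g, M.hyper_le hg⟩) |>.2 ⟨M.conjN k, ?_⟩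
  set d := (M.conjN k * k)⁻¹ * ⟨g, M.hyper_le hg⟩ with hd
  have h1 : (d : G) ∈ T.PX := M.phi_eq_one.1 (by rw [hd, map_mul, map_inv, hk, inv_mul_cancel])
  have h2 : M.phi (M.conjN d) = 1 := M.phi_eq_one.2
    ⟨T.nor_conj M.n_fix.1 h1.1, (T.ec_conj M.n_fix.1 h1.1).trans h1.2⟩
  rw [hd, map_mul, map_inv, map_mul, map_mul, map_inv, inv_mul_eq_one] at h2
  exact h2.symm

theorem gam_free' {x : L} (hx : T.σ x = x) (h : T.gam n x = x) : x = 0 := T.gam_free M.n_fix.1 M.n_trans hx h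

theorem u_notMem : T.u ∉ M.hyper := by
  intro hu
  obtain ⟨k, hk⟩ := M.mem_hyper (g := ⟨T.u, M.P_le T.u_mem⟩) |>.1 hu
  have h0 := M.phi_x0 hk
  rw [show T.x0 ((⟨T.u, M.P_le T.u_mem⟩ : S) : G) = 0 from (T.P_act T.u_mem).1.2.1] at h0
  have h1 : T.x0 ((M.conjN k * k : S) : G) = T.gam n (T.x0 k) + T.x0 k := by
    show T.x0 (n * k * n⁻¹ * k) = _
    rw [M.x0_mul (M.n_norm k k.2) (T.n1_le (M.le_n1 k.2)), M.x0_conj k.2]
  rw [h1] at h0
  have hkP := M.mem_P k.2 (M.gam_free' (T.x0_fix (T.n1_le (M.le_n1 k.2))) (eq_of_add_zero h0.symm))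
  have h2 : M.phi (M.conjN k * k) = 1 := M.phi_eq_one.2 ⟨mul_mem (T.nor_conj M.n_fix.1 hkP) hkP, by
    show T.ec (n * k * n⁻¹ * k) = 0
    rw [T.ec_mul _ (T.nor_conj M.n_fix.1 hkP) _ hkP, T.ec_conj M.n_fix.1 hkP, CharTwo.add_self_eq_zero]⟩
  have h3 := (M.phi_eq_one.1 (hk.trans h2)).2
  rw [show ((⟨T.u, M.P_le T.u_mem⟩ : S) : G) = T.u from rfl, T.u_co.1] at h3
  exact one_ne_zero h3

/-- Every element of `S` is in the hyperplane or its translate by `u`. -/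
theorem hyper_or {g : G} (hg : g ∈ S) : g ∈ M.hyper ∨ g * T.u ∈ M.hyper := by
  classical
  have hgn := T.n1_le (M.le_n1 hg)
  let f : fixedSub T.σ → fixedSub T.σ := fun x => ⟨T.gam n x + x, by
    show T.σ (T.gam n x + x) = T.gam n x + x
    rw [map_add, T.gam_fix M.n_fix.1 x.2]; exact congrArg (_ + ·) x.2⟩
  have hf : Function.Injective f := fun x y e => by
    have e' : T.gam n x + x = T.gam n y + y := congrArg Subtype.val e
    refine Subtype.ext (eq_of_add_zero (M.gam_free' (add_mem x.2 y.2 : (x : L) + y ∈ fixedSub T.σ) ?_))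
    rw [T.gam_add M.n_fix.1 x.2 y.2]
    linear_combination e' + (T.gam n ↑y - ↑x) * two_zero (L := L)
  obtain ⟨x, hx⟩ := Finite.injective_iff_surjective.1 hf ⟨T.x0 g, T.x0_fix hgn⟩
  obtain ⟨k, hk, hkx⟩ := M.onto x x.2
  set a : S := M.conjN ⟨k, hk⟩ * ⟨k, hk⟩ with ha
  have haH : (a : G) ∈ M.hyper := M.mem_hyper.2 ⟨⟨k, hk⟩, rfl⟩
  have hax : T.x0 (a : G) = T.x0 g := by
    show T.x0 (n * k * n⁻¹ * k) = _
    rw [M.x0_mul (M.n_norm k hk) (T.n1_le (M.le_n1 hk)), M.x0_conj hk, hkx]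
    exact congrArg Subtype.val hx
  have hd : (a : G)⁻¹ * g ∈ T.P := M.mem_P (mul_mem (inv_mem a.2) hg)
    (by rw [M.x0_mul (inv_mem a.2) hgn, M.x0_inv a.2, hax, CharTwo.add_self_eq_zero])
  have hPX : ∀ {p}, p ∈ T.PX → p ∈ M.hyper := fun {p} hp =>
    M.mem_hyper (g := ⟨p, M.P_le hp.1⟩) |>.2 ⟨1, by rw [M.phi_eq_one.2 hp, map_one, mul_one, map_one]⟩
  rcases T.ec_cases _ hd with h | h
  · left
    rw [← mul_inv_cancel_left (a : G) g]
    exact mul_mem haH (hPX ⟨hd, h⟩)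
  · right
    rw [show g * T.u = (a : G) * ((a : G)⁻¹ * g * T.u) by group]
    exact mul_mem haH (hPX ⟨mul_mem hd T.u_mem, by
      rw [T.ec_mul _ hd _ T.u_mem, h, T.u_co.1, CharTwo.add_self_eq_zero]⟩)

theorem relIndex_hyper : M.hyper.relIndex S = 2 := by
  rw [relIndex, index_eq_two_iff]
  refine ⟨⟨T.u, M.P_le T.u_mem⟩, fun g => ?_⟩
  simp only [mem_subgroupOf, Subgroup.coe_mul]
  rcases M.hyper_or g.2 with h | h
  · refine Or.inr ⟨h, fun h' => M.u_notMem ?_⟩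
    have h1 := mul_mem (inv_mem h) h'
    rwa [inv_mul_cancel_left] at h1
  · refine Or.inl ⟨h, fun h' => M.u_notMem ?_⟩
    have h1 := mul_mem (inv_mem h') h
    rwa [inv_mul_cancel_left] at h1

theorem card_hyper : Nat.card M.hyper = T.q ^ 5 := by
  have h := card_mul_index (M.hyper.subgroupOf S)
  rw [Nat.card_congr (subgroupOfEquivOfLe M.hyper_le).toEquiv,
    show (M.hyper.subgroupOf S).index = 2 from M.relIndex_hyper, M.card_S, mul_comm 2] at h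
  exact Nat.eq_of_mul_eq_mul_right two_pos h

/-- An element of the hyperplane fixing the class is in `X Q`. -/
theorem hyper_PX {g : G} (hg : g ∈ M.hyper) (h0 : T.x0 g = 0) : g ∈ T.PX := by
  have hP := M.mem_P (M.hyper_le hg) h0
  refine ⟨hP, (T.ec_cases g hP).resolve_right fun h => M.u_notMem ?_⟩
  have hgu : g * T.u ∈ T.PX := ⟨mul_mem hP T.u_mem, by
    rw [T.ec_mul g hP _ T.u_mem, h, T.u_co.1, CharTwo.add_self_eq_zero]⟩
  have h1 : g * T.u ∈ M.hyper :=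
    M.mem_hyper (g := ⟨g * T.u, M.P_le hgu.1⟩) |>.2 ⟨1, by rw [M.phi_eq_one.2 hgu, map_one, mul_one, map_one]⟩
  have h2 := mul_mem (inv_mem hg) h1
  rwa [inv_mul_cancel_left] at h2

theorem comm_PX {g k : G} (hg : g ∈ M.hyper) (hk : k ∈ M.hyper) :
    g * k * g⁻¹ * k⁻¹ ∈ T.PX ∧ T.zc (g * k * g⁻¹ * k⁻¹) = 0 := by
  have hgS := M.hyper_le hg
  have hkS := M.hyper_le hk
  set c := g * k * g⁻¹ * k⁻¹ with hc
  have hcX : c ∈ T.PX := by
    have h : M.phi (⟨g, hgS⟩ * ⟨k, hkS⟩ * ⟨g, hgS⟩⁻¹ * ⟨k, hkS⟩⁻¹) = 1 := by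
      rw [map_mul, map_mul, map_mul, map_inv, map_inv, mul_comm (M.phi _) (M.phi _), mul_inv_cancel_right,
        mul_inv_cancel]
    exact M.phi_eq_one.1 h
  refine ⟨hcX, ?_⟩
  by_contra hz
  obtain ⟨w, hw⟩ := exists_pol T.invol hz (map_one T.σ)
  obtain ⟨y, hy, y1, -, y3⟩ := T.onto 0 w (map_zero _)
  have hyX : y ∈ T.PX := ⟨hy, y1⟩
  have hEg := (T.mem_n1.1 (M.le_n1 hgS)).2
  have hEk := (T.mem_n1.1 (M.le_n1 hkS)).2
  have hdg := M.act hgS hyX
  have hdk := M.act hkS hyX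
  have h1 : g * k * y * (g * k)⁻¹ = k * g * y * (k * g)⁻¹ := by
    calc g * k * y * (g * k)⁻¹ = g * (k * y * k⁻¹ * y⁻¹) * g⁻¹ * (g * y * g⁻¹ * y⁻¹) * y := by group
      _ = (k * y * k⁻¹ * y⁻¹) * (g * y * g⁻¹ * y⁻¹) * y := by rw [(hEg _ hdk).eq, mul_inv_cancel_right]
      _ = (g * y * g⁻¹ * y⁻¹) * (k * y * k⁻¹ * y⁻¹) * y := by rw [(T.fr.data.comm _ hdk _ hdg).eq]
      _ = k * (g * y * g⁻¹ * y⁻¹) * k⁻¹ * (k * y * k⁻¹ * y⁻¹) * y := by rw [(hEk _ hdg).eq, mul_inv_cancel_right]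
      _ = k * g * y * (k * g)⁻¹ := by group
  have h2 : c * y * c⁻¹ * y⁻¹ = 1 := by
    have h3 := M.act (mul_mem hkS hgS) hyX
    have hcE : Commute c (k * g * y * (k * g)⁻¹ * y⁻¹) := T.Ec hcX.1 h3
    calc c * y * c⁻¹ * y⁻¹
        = (g * k * (k * g)⁻¹) * y * (g * k * (k * g)⁻¹)⁻¹ * y⁻¹ := by rw [hc]; group
      _ = g * k * ((k * g)⁻¹ * y * (k * g)) * (g * k)⁻¹ * y⁻¹ := by group
      _ = 1 := by
        have h4 := M.act (inv_mem (mul_mem hkS hgS)) hyX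
        rw [inv_inv] at h4
        set d := (k * g)⁻¹ * y * (k * g) * y⁻¹ with hdd
        have h5 : Commute (g * k) d := (T.mem_n1.1 (M.le_n1 (mul_mem hgS hkS))).2 _ h4
        have h6 : Commute (k * g) d := (T.mem_n1.1 (M.le_n1 (mul_mem hkS hgS))).2 _ h4
        calc g * k * ((k * g)⁻¹ * y * (k * g)) * (g * k)⁻¹ * y⁻¹
            = g * k * d * (g * k)⁻¹ * (g * k * y * (g * k)⁻¹) * y⁻¹ := by rw [hdd]; group
          _ = k * g * d * (k * g)⁻¹ * (k * g * y * (k * g)⁻¹) * y⁻¹ := by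
            rw [h5.eq, mul_inv_cancel_right, h1, h6.eq, mul_inv_cancel_right]
          _ = 1 := by rw [hdd]; group
  have h7 := congrArg T.η h2
  rw [T.eta_one, T.comm_eq hcX.1 hy, hcX.2, y1, y3, zero_mul, zero_mul, zero_add, zero_add, hw] at h7
  exact one_ne_zero h7

theorem xc_conj {g p : G} (hg : g ∈ S) (hp : p ∈ T.PX) : T.xc (g * p * g⁻¹) = T.xc p := by
  have h := M.act hg hp
  rw [show g * p * g⁻¹ = g * p * g⁻¹ * p⁻¹ * p by group, T.xc_mul _ (T.E_le h) _ hp.1, (T.ker' _ h).2.1, zero_add]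

theorem xc_left {g g' k : G} (hg : g ∈ M.hyper) (hg' : g' ∈ M.hyper) (hk : k ∈ M.hyper) :
    T.xc (g * g' * k * (g * g')⁻¹ * k⁻¹) =
      T.xc (g * k * g⁻¹ * k⁻¹) + T.xc (g' * k * g'⁻¹ * k⁻¹) := by
  obtain ⟨h1, -⟩ := M.comm_PX hg hk
  obtain ⟨h2, -⟩ := M.comm_PX hg' hk
  rw [show g * g' * k * (g * g')⁻¹ * k⁻¹ = g * (g' * k * g'⁻¹ * k⁻¹) * g⁻¹ * (g * k * g⁻¹ * k⁻¹) by group,
    T.xc_mul _ (T.nor_conj (T.n1_le (M.le_n1 (M.hyper_le hg))) h2.1) _ h1.1, M.xc_conj (M.hyper_le hg) h2,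
    add_comm]

theorem xc_right {g k k' : G} (hg : g ∈ M.hyper) (hk : k ∈ M.hyper) (hk' : k' ∈ M.hyper) :
    T.xc (g * (k * k') * g⁻¹ * (k * k')⁻¹) =
      T.xc (g * k * g⁻¹ * k⁻¹) + T.xc (g * k' * g⁻¹ * k'⁻¹) := by
  obtain ⟨h1, -⟩ := M.comm_PX hg hk
  obtain ⟨h2, -⟩ := M.comm_PX hg hk'
  rw [show g * (k * k') * g⁻¹ * (k * k')⁻¹ = g * k * g⁻¹ * k⁻¹ * (k * (g * k' * g⁻¹ * k'⁻¹) * k⁻¹) by group,
    T.xc_mul _ h1.1 _ (T.nor_conj (T.n1_le (M.le_n1 (M.hyper_le hk))) h2.1), M.xc_conj (M.hyper_le hk) h2]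

theorem xc_PX_left {p k : G} (hp : p ∈ T.PX) (hk : k ∈ M.hyper) : T.xc (p * k * p⁻¹ * k⁻¹) = 0 := by
  have h := M.act (M.hyper_le hk) hp
  exact (T.ker' _ (by
    rw [show p * k * p⁻¹ * k⁻¹ = (k * p * k⁻¹ * p⁻¹)⁻¹ by group]
    exact inv_mem h)).2.1

theorem xc_PX_right {p k : G} (hp : p ∈ T.PX) (hk : k ∈ M.hyper) : T.xc (k * p * k⁻¹ * p⁻¹) = 0 :=
  (T.ker' _ (M.act (M.hyper_le hk) hp)).2.1

/-- The commutators of the hyperplane lie in `E`. -/
theorem hyper_comm {g k : G} (hg : g ∈ M.hyper) (hk : k ∈ M.hyper) : g * k * g⁻¹ * k⁻¹ ∈ T.E := by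
  classical
  have hsel : ∀ x : fixedSub T.σ, ∃ g ∈ M.hyper, T.x0 g = x := fun x => by
    obtain ⟨g, hg, hgx⟩ := M.onto x x.2
    rcases M.hyper_or hg with h | h
    · exact ⟨g, h, hgx⟩
    · exact ⟨g * T.u, h, by rw [M.x0_mul hg (T.P_le_nor T.u_mem), (T.P_act T.u_mem).1.2.1, add_zero, hgx]⟩
  choose s hs hsx using hsel
  have hdiff : ∀ {g g'}, g ∈ M.hyper → g' ∈ M.hyper → T.x0 g = T.x0 g' → g⁻¹ * g' ∈ T.PX := fun {g g'} hg hg' e =>
    M.hyper_PX (mul_mem (inv_mem hg) hg') (by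
      rw [M.x0_mul (inv_mem (M.hyper_le hg)) (T.n1_le (M.le_n1 (M.hyper_le hg'))), M.x0_inv (M.hyper_le hg), e,
        CharTwo.add_self_eq_zero])
  have hcl : ∀ {g g' k}, g ∈ M.hyper → g' ∈ M.hyper → k ∈ M.hyper → T.x0 g = T.x0 g' →
      T.xc (g * k * g⁻¹ * k⁻¹) = T.xc (g' * k * g'⁻¹ * k⁻¹) := fun {g g' k} hg hg' hk e => by
    have h := M.xc_left hg (mul_mem (inv_mem hg) hg') hk
    rw [mul_inv_cancel_left, M.xc_PX_left (hdiff hg hg' e) hk, add_zero] at h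
    exact h.symm
  have hcr : ∀ {g k k'}, g ∈ M.hyper → k ∈ M.hyper → k' ∈ M.hyper → T.x0 k = T.x0 k' →
      T.xc (g * k * g⁻¹ * k⁻¹) = T.xc (g * k' * g⁻¹ * k'⁻¹) := fun {g k k'} hg hk hk' e => by
    have h := M.xc_right hg hk (mul_mem (inv_mem hk) hk')
    rw [mul_inv_cancel_left, M.xc_PX_right (hdiff hk hk' e) hg, add_zero] at h
    exact h.symm
  let μ : fixedSub T.σ → fixedSub T.σ → fixedSub T.σ := fun x y =>
    ⟨T.xc (s x * s y * (s x)⁻¹ * (s y)⁻¹), T.xc_fix _ (M.comm_PX (hs x) (hs y)).1.1⟩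
  let c : fixedSub T.σ →+ fixedSub T.σ := AddMonoidHom.mk' (fun x => ⟨T.gam n x, T.gam_fix M.n_fix.1 x.2⟩)
    fun x y => Subtype.ext (T.gam_add M.n_fix.1 x.2 y.2)
  have hc : ∀ (j : ℕ) (x : fixedSub T.σ), ((c^[j] x : fixedSub T.σ) : L) = T.gam (n ^ j) x := by
    intro j
    induction j with
    | zero => intro x; rw [pow_zero, T.gam_of_cent (fun e _ => Commute.one_left e) x.2]; rfl
    | succ j ih =>
      intro x
      rw [Function.iterate_succ_apply', pow_succ', T.gam_conj M.n_fix.1 (pow_mem M.n_fix.1 j) x.2, ← ih]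
      rfl
  obtain ⟨m, hm, hmn⟩ := M.n_period
  have hμ := alt_eq_zero (V := fixedSub T.σ) (fun x => Subtype.ext (CharTwo.add_self_eq_zero _)) c
    (fun x y hx hy => by
      obtain ⟨j, hj⟩ := M.n_trans x y x.2 y.2 (fun h => hx (Subtype.ext h)) (fun h => hy (Subtype.ext h))
      exact ⟨j, Subtype.ext ((hc j x).trans hj)⟩)
    hm (fun x => Subtype.ext ((hc m x).trans (hmn x x.2))) μ
    (fun x y z => Subtype.ext (by
      show T.xc _ = T.xc _ + T.xc _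
      rw [← M.xc_left (hs x) (hs y) (hs z)]
      refine hcl (hs _) (mul_mem (hs x) (hs y)) (hs z) ?_
      rw [M.x0_mul (M.hyper_le (hs x)) (T.n1_le (M.le_n1 (M.hyper_le (hs y)))), hsx, hsx, hsx]
      rfl))
    (fun x y z => Subtype.ext (by
      show T.xc _ = T.xc _ + T.xc _
      rw [← M.xc_right (hs x) (hs y) (hs z)]
      refine hcr (hs x) (hs _) (mul_mem (hs y) (hs z)) ?_
      rw [M.x0_mul (M.hyper_le (hs y)) (T.n1_le (M.le_n1 (M.hyper_le (hs z)))), hsx, hsx, hsx]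
      rfl))
    (fun x => Subtype.ext (by
      show T.xc _ = 0
      rw [mul_inv_cancel_right, mul_inv_cancel, T.co_one.2.1]))
    (fun x y => Subtype.ext (by
      show T.xc _ = T.gam n (T.xc _)
      have hx' := M.hyper_conj (hs x)
      have hy' := M.hyper_conj (hs y)
      rw [hcl (hs (c x)) hx' (hs (c y)) (by rw [hsx, M.x0_conj (M.hyper_le (hs x)), hsx]; rfl),
        hcr hx' (hs (c y)) hy' (by rw [hsx, M.x0_conj (M.hyper_le (hs y)), hsx]; rfl),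
        show n * s x * n⁻¹ * (n * s y * n⁻¹) * (n * s x * n⁻¹)⁻¹ * (n * s y * n⁻¹)⁻¹ =
          n * (s x * s y * (s x)⁻¹ * (s y)⁻¹) * n⁻¹ by group]
      obtain ⟨hq, -⟩ := M.comm_PX (hs x) (hs y)
      rw [T.conj_xc M.n_fix.1 hq.1, M.n_fix.2.1, M.n_fix.2.2, mul_zero, pol_zero_left, zero_add, add_zero]))
  obtain ⟨hc1, hc2⟩ := M.comm_PX hg hk
  refine T.ker _ hc1.1 hc1.2 ?_ hc2
  set x : fixedSub T.σ := ⟨T.x0 g, T.x0_fix (T.n1_le (M.le_n1 (M.hyper_le hg)))⟩ with hx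
  set y : fixedSub T.σ := ⟨T.x0 k, T.x0_fix (T.n1_le (M.le_n1 (M.hyper_le hk)))⟩ with hy
  rw [hcl hg (hs x) hk (hsx x).symm, hcr (hs x) hk (hs y) (hsx y).symm]
  exact congrArg Subtype.val (hμ x y)

/-- The hyperplane has no multi. -/
theorem hyper_no_multi {w : G} (hw : w ∈ M.hyper) (hm : IsMulti Ω w) : False := by
  classical
  have hwn := M.le_n1 (M.hyper_le hw)
  let f : M.hyper →* T.E := MonoidHom.mk'
    (fun p => ⟨(p : G) * w * (p : G)⁻¹ * w⁻¹, M.hyper_comm p.2 hw⟩) fun p k => Subtype.ext (by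
      have hk := M.hyper_comm k.2 hw
      have hp := M.hyper_comm p.2 hw
      show (p : G) * k * w * ((p : G) * k)⁻¹ * w⁻¹ =
        ((p : G) * w * (p : G)⁻¹ * w⁻¹) * ((k : G) * w * (k : G)⁻¹ * w⁻¹)
      rw [T.fr.data.comm _ hp _ hk]
      calc (p : G) * k * w * ((p : G) * k)⁻¹ * w⁻¹
          = (p : G) * ((k : G) * w * (k : G)⁻¹ * w⁻¹) * (p : G)⁻¹ * ((p : G) * w * (p : G)⁻¹ * w⁻¹) := by group
        _ = _ := by rw [((T.mem_n1.1 (M.le_n1 (M.hyper_le p.2))).2 _ hk).eq, mul_inv_cancel_right])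
  have h := card_mul_index f.ker
  rw [index_ker, M.card_hyper] at h
  have h1 : Nat.card f.range ≤ T.q := by rw [← T.fr.data.card_E]; exact Subgroup.card_le_card_group _
  have hle : Nat.card f.ker ≤ 2 * T.q ^ 3 := by
    have h2 := T.card_cent_le hm (T.nor_fix (T.n1_le hwn)) (T.mem_n1.1 hwn).2
      (M.hyper ⊓ centralizer {w}) (M.two.to_le (inf_le_left.trans M.hyper_le))
      (fun g hg => T.nor_fix (T.n1_le (M.le_n1 (M.hyper_le hg.1))))
      (fun g hg => mem_centralizer_singleton_iff.1 hg.2)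
      fun g hg => (T.mem_n1.1 (M.le_n1 (M.hyper_le hg.1))).2
    refine le_trans (Nat.card_le_card_of_injective
      (fun x : f.ker => (⟨(x.1 : G), x.1.2, mem_centralizer_singleton_iff.2
        (mul_inv_eq_iff_eq_mul.1 (mul_inv_eq_one.1 (congrArg Subtype.val x.2)))⟩ :
        (M.hyper ⊓ centralizer {w} : Subgroup G))) fun x y e => ?_) h2
    exact Subtype.ext (Subtype.ext (congrArg Subtype.val e :))
  have h3 := Nat.mul_le_mul hle h1
  rw [h] at h3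
  have hq := T.q_four
  have h4 : T.q ^ 4 * T.q ≤ T.q ^ 4 * 2 := le_of_eq_of_le (pow_succ T.q 4).symm (h3.trans_eq (by ring))
  have := Nat.le_of_mul_le_mul_left h4 (by positivity)
  omega

end Moving

end Three

end CfsgLib.AschCrit.EndThree
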