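import Cfsg.Agent.Lib.Invol.AschCrit.EndThree.Hyper

/-!
Owner: helper29. Aschbacher's criterion, end game of unitary type: `C(E)` cannot move the class of `u`.

The normaliser of `S` at the point moves the block of `u` either not at all, or `C(E)` has a two-group of order
`2 q ^ 6`, or there are too many semilinear maps; so it normalises `P`, `S` is a Sylow group and transfer applies.
-/

set_option autoImplicit false
set_option linter.unusedSectionVars false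
set_option linter.style.haveILetI false

namespace CfsgLib.AschCrit.EndThree

open Subgroup MulAction CfsgLib.Classical.Herm

universe u

variable {G : Type u} [Group G] [Finite G] {Ω : Type u} [MulAction G Ω]

namespace Three

namespace Moving

variable {D : Set G} {L : Type} [Field L] [Finite L] [CharP L 2] {T : Three Ω D L} {S : Subgroup G} {n : G}
  (M : T.Moving S n)
include M

/-- The stabiliser of the point normalising `S`. -/
noncomputable def nS (_M : T.Moving S n) : Subgroup G := stabilizer G T.a ⊓ normalizer (S : Set G)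

omit M in
theorem nS_fix (M : T.Moving S n) {g : G} (hg : g ∈ M.nS) : g • T.a = T.a := hg.1

theorem nS_conj {g : G} (hg : g ∈ M.nS) {p : G} (hp : p ∈ S) : g * p * g⁻¹ ∈ S :=
  (mem_normalizer_iff.1 hg.2 p).1 hp

theorem mem_nS {g : G} (ha : g • T.a = T.a) (hS : ∀ p ∈ S, g * p * g⁻¹ ∈ S) : g ∈ M.nS :=
  ⟨ha, mem_normalizer_iff_map_conj_eq.2 (eq_of_le_of_card_ge
    (by rintro _ ⟨p, hp, rfl⟩; exact hS p hp) (card_map_of_injective (MulAut.conj g).injective).ge)⟩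

theorem n_mem : n ∈ M.nS := M.mem_nS (T.nor_fix M.n_fix.1) M.n_norm

theorem S_le : S ≤ M.nS := fun g hg =>
  M.mem_nS (T.nor_fix (T.n1_le (M.le_n1 hg))) fun _ hp => mul_mem (mul_mem hg hp) (inv_mem hg)

theorem nS_E {g : G} (hg : g ∈ M.nS) {e : G} (he : e ∈ T.E) : g * e * g⁻¹ ∈ T.E := by
  refine M.center (M.nS_conj hg (M.P_le (T.E_le he))) fun s hs => ?_
  have hs' := M.nS_conj (inv_mem hg) hs
  rw [inv_inv] at hs'
  have h := (((T.mem_n1.1 (M.le_n1 hs')).2 e he).symm).map (MulAut.conj g).toMonoidHom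
  simpa [mul_assoc] using h

theorem nS_PX {g : G} (hg : g ∈ M.nS) {p : G} (hp : p ∈ T.PX) : g * p * g⁻¹ ∈ T.PX := by
  refine M.second (M.nS_conj hg (M.P_le hp.1)) fun s hs => ?_
  have hs' := M.nS_conj (inv_mem hg) hs
  rw [inv_inv] at hs'
  have h := M.nS_E hg (inv_mem (M.act hs' hp))
  rwa [show g * ((g⁻¹ * s * g) * p * (g⁻¹ * s * g)⁻¹ * p⁻¹)⁻¹ * g⁻¹ =
    g * p * g⁻¹ * s * (g * p * g⁻¹)⁻¹ * s⁻¹ by group] at h

/-- The block of the image of `u`. -/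
def lab (_M : T.Moving S n) (g : G) : L := T.x0 (g * T.u * g⁻¹)

theorem conj_u {g : G} (hg : g ∈ M.nS) : g * T.u * g⁻¹ ∈ S := M.nS_conj hg (M.P_le T.u_mem)

theorem conj_u_notMem {g : G} (hg : g ∈ M.nS) : g * T.u * g⁻¹ ∉ M.hyper := fun h => by
  obtain ⟨h2, p, q, hpq, hp, hq⟩ := T.fr.multi
  refine M.hyper_no_multi h ⟨by rw [CfsgLib.Signalizer.orderOf_conj]; exact h2, g • p, g • q,
    fun e => hpq (smul_left_cancel g e), ?_, ?_⟩
  · rw [mul_smul, mul_smul, inv_smul_smul, hp]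
  · rw [mul_smul, mul_smul, inv_smul_smul, hq]

/-- Two elements outside the hyperplane in one block differ by an element of `X Q`. -/
theorem block {v w : G} (hv : v ∈ S) (hw : w ∈ S) (hv' : v ∉ M.hyper) (hw' : w ∉ M.hyper)
    (h : T.x0 v = T.x0 w) : v⁻¹ * w ∈ T.PX := by
  refine M.hyper_PX ?_ (by
    rw [M.x0_mul (inv_mem hv) (T.n1_le (M.le_n1 hw)), M.x0_inv hv, h, CharTwo.add_self_eq_zero])
  have h1 := (M.hyper_or hv).resolve_left hv'
  have h2 := (M.hyper_or hw).resolve_left hw'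
  have h3 := mul_mem (inv_mem h1) h2
  rw [show (v * T.u)⁻¹ * (w * T.u) = T.u⁻¹ * (v⁻¹ * w) * T.u by group] at h3
  -- the hyperplane is normal in `S`
  have hn : ∀ {x}, x ∈ M.hyper → T.u * x * T.u⁻¹ ∈ M.hyper := fun {x} hx => by
    haveI := normal_of_index_eq_two (H := M.hyper.subgroupOf S) M.relIndex_hyper
    have h := this.conj_mem ⟨x, M.hyper_le hx⟩ (show (⟨x, M.hyper_le hx⟩ : S) ∈ M.hyper.subgroupOf S from hx)
      ⟨T.u, M.P_le T.u_mem⟩
    exact h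
  have h4 := hn h3
  rwa [show T.u * (T.u⁻¹ * (v⁻¹ * w) * T.u) * T.u⁻¹ = v⁻¹ * w by group] at h4

theorem lab_congr {g k : G} (hg : g ∈ M.nS) (hk : k ∈ M.nS) (h : M.lab g = M.lab k) :
    (g * T.u * g⁻¹)⁻¹ * (k * T.u * k⁻¹) ∈ T.PX :=
  M.block (M.conj_u hg) (M.conj_u hk) (M.conj_u_notMem hg) (M.conj_u_notMem hk) h

theorem nor_of_lab {g : G} (hg : g ∈ M.nS) (h : M.lab g = 0) : g ∈ T.nor := by
  have hv : g * T.u * g⁻¹ ∈ T.P := M.mem_P (M.conj_u hg) h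
  refine T.mem_nor (M.nS_fix hg) fun p hp => ?_
  rcases T.ec_cases p hp with h0 | h0
  · exact (M.nS_PX hg (show p ∈ T.PX from ⟨hp, h0⟩)).1
  · have h1 : p * T.u ∈ T.PX := ⟨mul_mem hp T.u_mem, by
      rw [T.ec_mul p hp _ T.u_mem, h0, T.u_co.1, CharTwo.add_self_eq_zero]⟩
    have h2 := mul_mem (M.nS_PX hg h1).1 (inv_mem hv)
    rwa [show g * (p * T.u) * g⁻¹ * (g * T.u * g⁻¹)⁻¹ = g * p * g⁻¹ by group] at h2

theorem lab_of_nor {g : G} (hg : g ∈ T.nor) : M.lab g = 0 :=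
  (T.P_act (T.nor_conj hg T.u_mem)).1.2.1

theorem lab_mul {g k : G} (hg : g ∈ M.nS) (hk : k ∈ T.nor) : M.lab (g * k) = M.lab g := by
  have hd : T.u⁻¹ * (k * T.u * k⁻¹) ∈ T.PX := ⟨mul_mem (inv_mem T.u_mem) (T.nor_conj hk T.u_mem), by
    rw [T.ec_mul _ (inv_mem T.u_mem) _ (T.nor_conj hk T.u_mem), (T.co_inv T.u_mem).1, T.ec_conj hk T.u_mem,
      CharTwo.add_self_eq_zero]⟩
  have h := M.nS_PX hg hd
  show T.x0 (g * k * T.u * (g * k)⁻¹) = T.x0 (g * T.u * g⁻¹)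
  rw [show g * k * T.u * (g * k)⁻¹ = g * T.u * g⁻¹ * (g * (T.u⁻¹ * (k * T.u * k⁻¹)) * g⁻¹) by group,
    M.x0_mul (M.conj_u hg) (T.P_le_nor h.1), (T.P_act h.1).1.2.1, add_zero]

theorem lab_pow {g : G} (hg : g ∈ M.nS) (j : ℕ) : M.lab (n ^ j * g) = T.gam (n ^ j) (M.lab g) := by
  obtain ⟨hj1, hj2, hj3⟩ := pow_mem M.n_fix j
  show T.x0 (n ^ j * g * T.u * (n ^ j * g)⁻¹) = _
  rw [show n ^ j * g * T.u * (n ^ j * g)⁻¹ = n ^ j * (g * T.u * g⁻¹) * (n ^ j)⁻¹ by group,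
    T.x0_conj_eq hj1 (T.n1_le (M.le_n1 (M.conj_u hg))) hj2 hj3]
  rfl

/-- `C(E)` does not move the block of `u` inside the normaliser of `S`. -/
theorem lab_cent {g : G} (hg : g ∈ M.nS) (hE : ∀ e ∈ T.E, Commute g e) : M.lab g = 0 := by
  classical
  by_contra hg0
  set C₀ : Subgroup G := M.nS ⊓ centralizer (T.E : Set G) with hC₀
  have hmem : ∀ {x}, x ∈ C₀ ↔ x ∈ M.nS ∧ ∀ e ∈ T.E, Commute x e := fun {x} =>
    and_congr_right fun _ => mem_centralizer_iff.trans (forall₂_congr fun _ _ => eq_comm)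
  have hall : ∀ x : fixedSub T.σ, ∃ c ∈ C₀, M.lab c = x := by
    intro x
    rcases eq_or_ne x 0 with rfl | hx0
    · exact ⟨1, one_mem _, M.lab_of_nor (one_mem _)⟩
    obtain ⟨j, hj⟩ := M.n_trans _ _ (T.x0_fix (T.n1_le (M.le_n1 (M.conj_u hg)))) x.2 hg0
      (fun h => hx0 (Subtype.ext h))
    have hjS := pow_mem M.n_mem j
    have hjn := (pow_mem M.n_fix j).1
    refine ⟨n ^ j * g * (n ^ j)⁻¹, hmem.2 ⟨mul_mem (mul_mem hjS hg) (inv_mem hjS), fun e he => ?_⟩, ?_⟩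
    · have key : ∀ x ∈ T.nor, Commute (x * g * x⁻¹) e := fun x hx => by
        have he' := T.nor_E (inv_mem hx) he
        rw [inv_inv] at he'
        have h := (hE _ he').map (MulAut.conj x).toMonoidHom
        simpa [mul_assoc] using h
      exact key _ hjn
    · rw [M.lab_mul (mul_mem hjS hg) (inv_mem hjn), M.lab_pow hg, ← hj]
      rfl
  choose c hc hcx using hall
  set H₀ : Subgroup G := C₀ ⊓ T.nor with hH₀
  have hcard : Nat.card (fixedSub T.σ × H₀) = Nat.card C₀ := by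
    refine Nat.card_congr (Equiv.ofBijective (fun x => (⟨c x.1 * x.2, mul_mem (hc x.1) x.2.2.1⟩ : C₀)) ⟨?_, ?_⟩)
    · intro x y e
      have e' : c x.1 * (x.2 : G) = c y.1 * y.2 := congrArg Subtype.val e
      have h1 : x.1 = y.1 := Subtype.ext (by
        rw [← hcx x.1, ← M.lab_mul (hc x.1).1 x.2.2.2, e', M.lab_mul (hc y.1).1 y.2.2.2, hcx])
      rw [h1] at e'
      exact Prod.ext h1 (Subtype.ext (mul_left_cancel e'))
    · intro d
      obtain ⟨d, hd⟩ := d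
      set x : fixedSub T.σ := ⟨M.lab d, T.x0_fix (T.n1_le (M.le_n1 (M.conj_u hd.1)))⟩ with hx
      have hk : (c x)⁻¹ * d ∈ C₀ := mul_mem (inv_mem (hc x)) hd
      refine ⟨(x, ⟨(c x)⁻¹ * d, hk, M.nor_of_lab hk.1 ?_⟩), Subtype.ext (mul_inv_cancel_left _ _)⟩
      have h1 := M.nS_PX (inv_mem (hc x).1) (M.lab_congr (hc x).1 hd.1 (hcx x))
      rw [show (c x)⁻¹ * ((c x * T.u * (c x)⁻¹)⁻¹ * (d * T.u * d⁻¹)) * (c x)⁻¹⁻¹ =
        T.u⁻¹ * ((c x)⁻¹ * d * T.u * ((c x)⁻¹ * d)⁻¹) by group] at h1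
      show T.x0 ((c x)⁻¹ * d * T.u * ((c x)⁻¹ * d)⁻¹) = 0
      have h2 := mul_mem T.u_mem h1.1
      rw [mul_inv_cancel_left] at h2
      exact (T.P_act h2).1.2.1
  refine M.nodvd (T.dvd_of_group C₀ (fun x hx => ⟨M.nS_fix hx.1, (hmem.1 hx).2⟩) ?_)
  rw [← hcard, Nat.card_prod, T.card_fix, ← T.q_eq]
  have hSH : S ≤ H₀ := fun s hs => ⟨hmem.2 ⟨M.S_le hs, (T.mem_n1.1 (M.le_n1 hs)).2⟩, T.n1_le (M.le_n1 hs)⟩
  have h := Subgroup.card_dvd_of_le hSH
  rw [M.card_S] at h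
  rw [show 2 * T.q ^ 6 = T.q * (2 * T.q ^ 5) by ring]
  exact Nat.mul_dvd_mul_left _ h

/-- The normaliser of `S` does not move the block of `u`. -/
theorem lab_zero {g : G} (hg : g ∈ M.nS) : M.lab g = 0 := by
  by_contra hg0
  have hall : ∀ x : fixedSub T.σ, ∃ k ∈ M.nS, M.lab k = x := by
    intro x
    rcases eq_or_ne x 0 with rfl | hx0
    · exact ⟨1, one_mem _, M.lab_of_nor (one_mem _)⟩
    obtain ⟨j, hj⟩ := M.n_trans _ _ (T.x0_fix (T.n1_le (M.le_n1 (M.conj_u hg)))) x.2 hg0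
      (fun h => hx0 (Subtype.ext h))
    exact ⟨n ^ j * g, mul_mem (pow_mem M.n_mem j) hg, by rw [M.lab_pow hg, ← hj]; rfl⟩
  choose f hf hfx using hall
  refine T.spread_absurd f M.n_fix.1 M.n_trans (fun x e he => M.nS_E (hf x) he)
    (fun x p hp => M.nS_PX (hf x) hp) fun x y i j hij => ?_
  have hgx : f x * n ^ i ∈ M.nS := mul_mem (hf x) (pow_mem M.n_mem i)
  have hgy : f y * n ^ j ∈ M.nS := mul_mem (hf y) (pow_mem M.n_mem j)
  set k := (f y * n ^ j)⁻¹ * (f x * n ^ i) with hk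
  have hkn : k ∈ M.nS := mul_mem (inv_mem hgy) hgx
  have he : f y * n ^ j * k = f x * n ^ i := by rw [hk, mul_inv_cancel_left]
  have hsy := T.semi_PX (fun e he => M.nS_E hgy he) (fun p hp => M.nS_PX hgy hp)
  have hkc : ∀ e ∈ T.E, Commute k e := T.cent_of_gam (fun e he => M.nS_E hkn he) fun e he' => by
    have h := T.gam_comp (g := f y * n ^ j) (fun e he => M.nS_E hkn he) he'
    rw [he, hij e he'] at h
    have hfix : T.σ (T.gam k e) = T.gam k e := T.eta_mem _ (M.nS_E hkn (T.ei_mem e he').1)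
    refine eq_of_add_zero (hsy.inj _ (by rw [map_add, hfix, he']) ?_)
    rw [hsy.add _ _ hfix he', ← h, CharTwo.add_self_eq_zero]
  have h := M.lab_mul hgy (M.nor_of_lab hkn (M.lab_cent hkn hkc))
  rw [he, M.lab_mul (hf x) (pow_mem M.n_fix.1 i), M.lab_mul (hf y) (pow_mem M.n_fix.1 j), hfx, hfx] at h
  exact Subtype.ext h

/-- The case where `C(E)` moves the class of `u`. -/
theorem moving_absurd (htop : Subgroup.closure D = ⊤) : False := by
  refine T.transfer_kill htop S M.hyper M.two (fun g hg => T.nor_fix (T.n1_le (M.le_n1 hg))) ?_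
    M.relIndex_hyper fun w hw hm => M.hyper_no_multi hw hm
  intro K hK hSK hKa g hg hgS
  have hgS' : g ∈ M.nS := M.mem_nS (hKa g hg) hgS
  have hgn : g ∈ T.nor := M.nor_of_lab hgS' (M.lab_zero hgS')
  obtain ⟨s, hs, hsx⟩ := M.onto _ (T.x0_fix hgn)
  set k := s⁻¹ * g with hk
  have hkK : k ∈ K := mul_mem (inv_mem (hSK hs)) hg
  have hkn : k ∈ T.nor := mul_mem (T.n1_le (inv_mem (M.le_n1 hs))) hgn
  have hk0 : k ∈ T.fix0 := T.mem_fix0.2 ⟨hkn, by
    rw [hk, M.x0_mul (inv_mem hs) hgn, M.x0_inv hs, hsx, CharTwo.add_self_eq_zero], T.z0_nor M.nodvd hkn⟩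
  have hmax : K ⊓ T.n1 = S := M.max _ (hK.to_le inf_le_left) (le_inf hSK M.le_n1) inf_le_right
  obtain ⟨m, hm⟩ := hK ⟨k, hkK⟩
  have hcent := T.gam_one_of_two hk0 (n := m) (congrArg Subtype.val hm) fun j hj =>
    M.triv _ (hmax ▸ (⟨pow_mem hkK j, T.mem_n1.2 ⟨pow_mem hkn j,
      T.cent_of_gam (fun e he => T.nor_E (pow_mem hkn j) he) hj⟩⟩ : k ^ j ∈ K ⊓ T.n1))
  have h1 : k ∈ S := hmax ▸ (⟨hkK, T.mem_n1.2 ⟨hkn, hcent⟩⟩ : k ∈ K ⊓ T.n1)
  rw [← mul_inv_cancel_left s g]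
  exact mul_mem hs h1

end Moving

end Three

end CfsgLib.AschCrit.EndThree
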