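import Cfsg.Agent.Lib.Invol.AschCrit.EndThree.Count
import Cfsg.Agent.Lib.Invol.AschCrit.EndThree.Kill

/-!
Owner: helper29. Aschbacher's criterion: the end game of unitary type.
-/

set_option autoImplicit false
set_option linter.unusedSectionVars false
set_option linter.style.haveILetI false

namespace CfsgLib.AschCrit

open Subgroup MulAction EndThree

universe u

variable {G : Type u} [Group G] [Finite G] {Ω : Type u} [MulAction G Ω]

namespace Crit

variable {D : Set G} (h : Crit Ω D)
include h

/-- The end game of unitary type. -/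
theorem endGameThree (hf : Faithful G Ω) (IH : Below.{u, u} (Nat.card G)) (htop : Subgroup.closure D = ⊤)
    (hform : Formula Ω D) (horb : OrbitBound Ω D) (hup : UnitaryPrimes Ω D) (hker : UnitaryKernel Ω D) :
    EndGame Ω D 3 := by
  intro v a b E q P R X Q t hFr hHT hm
  obtain ⟨L, iL, iF, iC, T, -, -, -⟩ :=
    exists_three h hf IH horb hFr hm (hker v a b E q P R X Q t hFr hHT hm)
  have hn : ¬ T.q ^ 6 ∣ Nat.card Ω - 1 := by
    obtain ⟨s, hs, hsu, hsa⟩ := h.exists_swapper T.u_sq T.fr.data.ne T.fr.data.fix_a T.fr.data.fix_b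
    obtain ⟨g, r, c, c', hg, -, hgo, hro, hrg, -, -, -, hcount, -⟩ :=
      hform T.u T.a T.b T.E T.q 3 T.fr.toTopFrame s hs hsu hsa
    refine count_absurd T.q_four ?_ hgo hro hrg hcount fun p hp hpg =>
      hup T.u T.a T.b T.E T.q T.fr.toTopFrame s hs hsu hsa p hp (hg ▸ hpg)
    rw [T.q_eq]
    exact Nat.even_pow.2 ⟨even_two, by have := T.two_s; omega⟩
  by_cases hmove : ∃ g ∈ T.n1, T.x0 g ≠ 0
  · obtain ⟨S, n, M⟩ := T.exists_moving hn hmove
    exact M.moving_absurd htop
  · push Not at hmove
    exact T.fixed_absurd htop hn hmove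

end Crit

end CfsgLib.AschCrit
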