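import Cfsg.Agent.Lib.Invol.AschCrit.EndThree.Facts

/-!
Owner: helper29. Aschbacher's criterion, end game of unitary type: the action of the normaliser of `P` at the
point on the coordinates.

* `Three.nor`: the stabiliser of `a` normalising `P`; it normalises `E`, `X` and `X Q`.
* `Three.conj_xc`, `Three.conj_zc`: the action `(γ, L, x0, z0)` on coordinates.
* `Three.gam_semi`, `Three.defect`, `Three.sq_u`: its identities.
* `Three.exists_torus`, `Three.exists_rot`: the torus and the rotation.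
-/

set_option autoImplicit false
set_option linter.unusedSectionVars false
set_option linter.style.haveILetI false

namespace CfsgLib.AschCrit.EndThree

open Subgroup MulAction CfsgLib.Classical.Herm

universe u

variable {G : Type u} [Group G] [Finite G] {Ω : Type u} [MulAction G Ω]

namespace Three

variable {D : Set G} {L : Type} [Field L] [Finite L] [CharP L 2] (T : Three Ω D L)
include T

/-- The elements of the point stabiliser normalising `P`. -/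
def nor : Subgroup G := stabilizer G T.a ⊓ normalizer (T.P : Set G)

theorem nor_fix {g : G} (hg : g ∈ T.nor) : g • T.a = T.a := hg.1

theorem nor_conj {g : G} (hg : g ∈ T.nor) {p : G} (hp : p ∈ T.P) : g * p * g⁻¹ ∈ T.P :=
  (mem_normalizer_iff.1 hg.2 p).1 hp

theorem mem_nor {g : G} (ha : g • T.a = T.a) (hP : ∀ p ∈ T.P, g * p * g⁻¹ ∈ T.P) : g ∈ T.nor :=
  ⟨ha, mem_normalizer_iff_map_conj_eq.2 (eq_of_le_of_card_ge
    (by rintro _ ⟨p, hp, rfl⟩; exact hP p hp) (card_map_of_injective (MulAut.conj g).injective).ge)⟩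

theorem P_le_nor : T.P ≤ T.nor := fun p hp => T.mem_nor (T.fix_a hp) fun k hk =>
  mul_mem (mul_mem hp hk) (inv_mem hp)

theorem exists_outside (x : L) : ∃ e, T.σ e = e ∧ e ≠ 0 ∧ e ≠ x := by
  classical
  by_contra hcon
  push Not at hcon
  let f : fixedSub T.σ → Fin 2 := fun e => if (e : L) = 0 then 0 else 1
  have hf : Function.Injective f := fun e e' he => by
    simp only [f] at he
    split_ifs at he with h1 h2 h2
    · exact Subtype.ext (h1.trans h2.symm)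
    · exact absurd he (by decide)
    · exact absurd he (by decide)
    · exact Subtype.ext ((hcon e e.2 h1).trans (hcon e' e'.2 h2).symm)
  have h := Nat.card_le_card_of_injective f hf
  rw [T.card_fix, Nat.card_fin] at h
  have := Nat.pow_le_pow_right (n := 2) two_pos T.two_s
  omega

theorem lam_zero : T.lam 0 = 0 := by
  have h := T.lam_add 0 0 (map_zero _) (map_zero _)
  rwa [add_zero, left_eq_add] at h

/-- Every element of `E` is a commutator of `P`. -/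
theorem exists_comm {e : G} (he : e ∈ T.E) : ∃ g ∈ T.P, ∃ k ∈ T.P, g * k * g⁻¹ * k⁻¹ = e := by
  obtain ⟨g, hg, g1, -, g3⟩ := T.onto 0 1 (map_zero _)
  obtain ⟨w, hw⟩ := exists_pol T.invol one_ne_zero (T.eta_mem e he)
  obtain ⟨k, hk, k1, -, k3⟩ := T.onto 0 w (map_zero _)
  refine ⟨g, hg, k, hk, T.eta_eq (T.comm_mem hg hk) he ?_⟩
  simp only [T.comm_eq hg hk, g1, k1, g3, k3, hw, zero_mul, zero_add]

theorem nor_E {g : G} (hg : g ∈ T.nor) {e : G} (he : e ∈ T.E) : g * e * g⁻¹ ∈ T.E := by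
  obtain ⟨x, hx, y, hy, rfl⟩ := T.exists_comm he
  rw [show g * (x * y * x⁻¹ * y⁻¹) * g⁻¹ =
    g * x * g⁻¹ * (g * y * g⁻¹) * (g * x * g⁻¹)⁻¹ * (g * y * g⁻¹)⁻¹ by group]
  exact T.comm_mem (T.nor_conj hg hx) (T.nor_conj hg hy)

theorem X_char {p : G} (hp : p ∈ T.P) :
    p ∈ T.X ↔ ∃ e ∈ T.E, ∀ k ∈ T.P, p * k * p⁻¹ * k⁻¹ ≠ e := by
  constructor
  · intro hX
    obtain ⟨-, h1, h3⟩ := (T.X_iff p).1 hX
    obtain ⟨e, he, he0, hex⟩ := T.exists_outside (T.xc p)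
    refine ⟨T.ei e, (T.ei_mem e he).1, fun k hk h => ?_⟩
    have h' := congrArg T.η h
    rw [(T.ei_mem e he).2, T.comm_eq hp hk, h1, h3, zero_mul, zero_add, pol_zero_left, add_zero] at h'
    rcases T.ec_cases k hk with h0 | h0 <;> rw [h0] at h'
    · rw [zero_mul] at h'; exact he0 h'.symm
    · rw [one_mul] at h'; exact hex h'.symm
  · rintro ⟨e, he, hne⟩
    have key : ∀ x z, T.σ x = x → T.ec p * x + pol T.σ (T.zc p) z ≠ T.η e := fun x z hx h => by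
      obtain ⟨k, hk, k1, k2, k3⟩ := T.onto x z hx
      refine hne k hk (T.eta_eq (T.comm_mem hp hk) he ?_)
      rw [T.comm_eq hp hk, k1, k2, k3, zero_mul, add_zero, h]
    have h3 : T.zc p = 0 := by
      by_contra h0
      obtain ⟨w, hw⟩ := exists_pol T.invol h0 (T.eta_mem e he)
      exact key 0 w (map_zero _) (by rw [mul_zero, zero_add, hw])
    refine (T.X_iff p).2 ⟨hp, (T.ec_cases p hp).resolve_right fun h1 => ?_, h3⟩
    exact key (T.η e) 0 (T.eta_mem e he) (by rw [h1, one_mul, pol_zero_right, add_zero])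

theorem ec_zero_iff {p : G} (hp : p ∈ T.P) : T.ec p = 0 ↔ ∀ x ∈ T.X, Commute p x := by
  constructor
  · intro h1 x hx
    obtain ⟨hxP, x1, x3⟩ := (T.X_iff x).1 hx
    have h := T.eta_inj _ (T.comm_mem hp hxP)
      (by rw [T.comm_eq hp hxP, h1, x1, x3, pol_zero_right, zero_mul, zero_mul, zero_add, zero_add])
    exact mul_inv_eq_iff_eq_mul.1 (mul_inv_eq_one.1 h)
  · intro hall
    obtain ⟨k, hk, k1, k2, k3⟩ := T.onto 1 0 (map_one _)
    have h : p * k * p⁻¹ * k⁻¹ = 1 := by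
      rw [(hall k ((T.X_iff k).2 ⟨hk, k1, k3⟩)).eq, mul_inv_cancel_right, mul_inv_cancel]
    have h' := congrArg T.η h
    rwa [T.eta_one, T.comm_eq hp hk, k1, k2, k3, mul_one, zero_mul, add_zero, pol_zero_right, add_zero] at h'

theorem X_of_conj {g : G} (hg : g ∈ T.nor) {p : G} (hp : p ∈ T.X) : g * p * g⁻¹ ∈ T.X := by
  have hpP := T.mod.X_le hp
  obtain ⟨e, he, hne⟩ := (T.X_char hpP).1 hp
  refine (T.X_char (T.nor_conj hg hpP)).2 ⟨g * e * g⁻¹, T.nor_E hg he, fun k hk h => ?_⟩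
  have hk' : g⁻¹ * k * g ∈ T.P := by
    have := T.nor_conj (inv_mem hg) hk
    rwa [inv_inv] at this
  refine hne _ hk' ?_
  calc p * (g⁻¹ * k * g) * p⁻¹ * (g⁻¹ * k * g)⁻¹
      = g⁻¹ * (g * p * g⁻¹ * k * (g * p * g⁻¹)⁻¹ * k⁻¹) * g := by group
    _ = e := by rw [h]; group

theorem ec_conj {g : G} (hg : g ∈ T.nor) {p : G} (hp : p ∈ T.P) : T.ec (g * p * g⁻¹) = T.ec p := by
  have key : ∀ {g : G}, g ∈ T.nor → ∀ {p : G}, p ∈ T.P → T.ec p = 0 → T.ec (g * p * g⁻¹) = 0 := by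
    intro g hg p hp h0
    refine (T.ec_zero_iff (T.nor_conj hg hp)).2 fun x hx => ?_
    have hx' := T.X_of_conj (inv_mem hg) hx
    rw [inv_inv] at hx'
    have h := ((T.ec_zero_iff hp).1 h0 _ hx').map (MulAut.conj g).toMonoidHom
    simpa [mul_assoc] using h
  rcases T.ec_cases p hp with h | h
  · rw [h, key hg hp h]
  rcases T.ec_cases _ (T.nor_conj hg hp) with h' | h'
  · have h2 := key (inv_mem hg) (T.nor_conj hg hp) h'
    rw [show g⁻¹ * (g * p * g⁻¹) * g⁻¹⁻¹ = p by group, h] at h2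
    exact absurd h2 one_ne_zero
  · rw [h, h']

/-- The action on `E`. -/
def gam (g : G) (x : L) : L := T.η (g * T.ei x * g⁻¹)

/-- The action on `Q` modulo `E` and `X`. -/
noncomputable def lmap (g : G) (z : L) : L := T.zc (g * (T.onto 0 z (map_zero _)).choose * g⁻¹)

/-- The first coordinate of the image of `u`. -/
def x0 (g : G) : L := T.xc (g * T.u * g⁻¹)

/-- The second coordinate of the image of `u`. -/
def z0 (g : G) : L := T.zc (g * T.u * g⁻¹)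

section

variable {g : G} (hg : g ∈ T.nor)
include hg

theorem gam_eta {e : G} (he : e ∈ T.E) : T.η (g * e * g⁻¹) = T.gam g (T.η e) := by
  obtain ⟨h1, h2⟩ := T.ei_mem _ (T.eta_mem e he)
  rw [gam, T.eta_eq h1 he h2]

theorem gam_fix {x : L} (hx : T.σ x = x) : T.σ (T.gam g x) = T.gam g x :=
  T.eta_mem _ (T.nor_E hg (T.ei_mem x hx).1)

theorem gam_add {x y : L} (hx : T.σ x = x) (hy : T.σ y = y) : T.gam g (x + y) = T.gam g x + T.gam g y := by
  obtain ⟨h1, h2⟩ := T.ei_mem x hx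
  obtain ⟨h3, h4⟩ := T.ei_mem y hy
  conv_lhs => rw [← h2, ← h4, ← T.eta_mul _ h1 _ h3, ← T.gam_eta hg (mul_mem h1 h3)]
  rw [show g * (T.ei x * T.ei y) * g⁻¹ = g * T.ei x * g⁻¹ * (g * T.ei y * g⁻¹) by group,
    T.eta_mul _ (T.nor_E hg h1) _ (T.nor_E hg h3)]
  rfl

theorem gam_zero : T.gam g 0 = 0 := by
  have h := T.gam_add hg (map_zero T.σ) (map_zero T.σ)
  rwa [add_zero, left_eq_add] at h

theorem gam_inj {x : L} (hx : T.σ x = x) (h : T.gam g x = 0) : x = 0 := by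
  obtain ⟨h1, h2⟩ := T.ei_mem x hx
  rw [← h2, show T.ei x = 1 from conj_eq_one_iff.1 (T.eta_inj _ (T.nor_E hg h1) h), T.eta_one]

theorem comm_conj {p k : G} (hp : p ∈ T.P) (hk : k ∈ T.P) :
    T.η (g * p * g⁻¹ * (g * k * g⁻¹) * (g * p * g⁻¹)⁻¹ * (g * k * g⁻¹)⁻¹) =
      T.gam g (T.η (p * k * p⁻¹ * k⁻¹)) := by
  rw [← T.gam_eta hg (T.comm_mem hp hk)]
  congr 1
  group

theorem conj_X {x : G} (hx : x ∈ T.X) :
    T.ec (g * x * g⁻¹) = 0 ∧ T.xc (g * x * g⁻¹) = T.gam g (T.xc x) ∧ T.zc (g * x * g⁻¹) = 0 := by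
  obtain ⟨hxP, x1, x3⟩ := (T.X_iff x).1 hx
  obtain ⟨-, y1, y3⟩ := (T.X_iff _).1 (T.X_of_conj hg hx)
  refine ⟨y1, ?_, y3⟩
  have h := T.comm_conj hg T.u_mem hxP
  rw [T.comm_eq T.u_mem hxP, T.comm_eq (T.nor_conj hg T.u_mem) (T.nor_conj hg hxP), T.ec_conj hg T.u_mem,
    T.u_co.1, T.u_co.2.2, x1, y1, x3, y3, one_mul, one_mul, zero_mul, zero_mul, pol_zero_right, pol_zero_right,
    add_zero, add_zero, add_zero, add_zero] at h
  exact h

theorem conj_Q {y : G} (hy : y ∈ T.Q) :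
    T.ec (g * y * g⁻¹) = 0 ∧ T.zc (g * y * g⁻¹) = T.lmap g (T.zc y) ∧
      T.xc (g * y * g⁻¹) = pol T.σ (T.z0 g) (T.lmap g (T.zc y)) := by
  obtain ⟨hyP, y1, y2⟩ := (T.Q_iff y).1 hy
  have e1 : T.ec (g * y * g⁻¹) = 0 := by rw [T.ec_conj hg hyP, y1]
  obtain ⟨kP, k1, k2, k3⟩ := (T.onto 0 (T.zc y) (map_zero _)).choose_spec
  set k := (T.onto 0 (T.zc y) (map_zero _)).choose
  have hd : g * (y⁻¹ * k) * g⁻¹ ∈ T.E :=
    T.nor_E hg (T.inv_mul_mem hyP kP (by rw [y1, k1]) (by rw [y2, k2]) k3.symm)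
  have e2 : T.zc (g * y * g⁻¹) = T.lmap g (T.zc y) := by
    show _ = T.zc (g * k * g⁻¹)
    rw [show g * k * g⁻¹ = g * y * g⁻¹ * (g * (y⁻¹ * k) * g⁻¹) by group,
      T.zc_mul _ (T.nor_conj hg hyP) _ (T.E_le hd), (T.ker' _ hd).2.2, add_zero]
  refine ⟨e1, e2, ?_⟩
  have h := T.comm_conj hg T.u_mem hyP
  rw [T.comm_eq T.u_mem hyP, T.comm_eq (T.nor_conj hg T.u_mem) (T.nor_conj hg hyP), T.ec_conj hg T.u_mem,
    T.u_co.1, T.u_co.2.2, y1, y2, e1, e2, mul_zero, one_mul, zero_mul, zero_mul, pol_zero_left, add_zero,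
    add_zero, add_zero, T.gam_zero hg] at h
  exact eq_of_add_zero h

theorem conj_co {p : G} (hp : p ∈ T.P) :
    T.xc (g * p * g⁻¹) = T.ec p * T.x0 g + T.gam g (T.xc p) + pol T.σ (T.z0 g) (T.lmap g (T.zc p)) ∧
      T.zc (g * p * g⁻¹) = T.ec p * T.z0 g + T.lmap g (T.zc p) := by
  obtain ⟨x, hxP, x1, x2, x3⟩ := T.onto (T.xc p) 0 (T.xc_fix p hp)
  obtain ⟨y, hyP, y1, y2, y3⟩ := T.onto 0 (T.zc p) (map_zero _)
  have hx := (T.X_iff x).2 ⟨hxP, x1, x3⟩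
  have hy := (T.Q_iff y).2 ⟨hyP, y1, y2⟩
  obtain ⟨-, a2, a3⟩ := T.conj_X hg hx
  obtain ⟨-, b3, b2⟩ := T.conj_Q hg hy
  rw [x2] at a2
  rw [y3] at b2 b3
  -- the element `r x y` with the coordinates of `p`
  obtain ⟨r, hrP, r1, r2, r3, cx, cz⟩ : ∃ r ∈ T.P, T.ec r = T.ec p ∧ T.xc r = 0 ∧ T.zc r = 0 ∧
      T.xc (g * r * g⁻¹) = T.ec p * T.x0 g ∧ T.zc (g * r * g⁻¹) = T.ec p * T.z0 g := by
    rcases T.ec_cases p hp with h | h
    · refine ⟨1, one_mem _, ?_⟩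
      obtain ⟨o1, o2, o3⟩ := T.co_one
      rw [mul_one, mul_inv_cancel, o1, o2, o3, h, zero_mul, zero_mul]
      exact ⟨rfl, rfl, rfl, rfl, rfl⟩
    · refine ⟨T.u, T.u_mem, ?_⟩
      rw [h, one_mul, one_mul]
      exact ⟨T.u_co.1, T.u_co.2.1, T.u_co.2.2, rfl, rfl⟩
  have hrxy : r * x * y ∈ T.P := mul_mem (mul_mem hrP hxP) hyP
  have hd : g * ((r * x * y)⁻¹ * p) * g⁻¹ ∈ T.E := T.nor_E hg (T.inv_mul_mem hrxy hp
    (by rw [T.ec_mul _ (mul_mem hrP hxP) _ hyP, T.ec_mul _ hrP _ hxP, r1, x1, y1, add_zero, add_zero])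
    (by rw [T.xc_mul _ (mul_mem hrP hxP) _ hyP, T.xc_mul _ hrP _ hxP, r2, x2, y2, zero_add, add_zero])
    (by rw [T.zc_mul _ (mul_mem hrP hxP) _ hyP, T.zc_mul _ hrP _ hxP, r3, x3, y3, zero_add, zero_add]))
  have he : g * p * g⁻¹ =
      g * r * g⁻¹ * (g * x * g⁻¹) * (g * y * g⁻¹) * (g * ((r * x * y)⁻¹ * p) * g⁻¹) := by group
  have m1 := T.nor_conj hg hrP
  have m2 := T.nor_conj hg hxP
  have m3 := T.nor_conj hg hyP
  rw [he, T.xc_mul _ (mul_mem (mul_mem m1 m2) m3) _ (T.E_le hd), T.xc_mul _ (mul_mem m1 m2) _ m3,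
    T.xc_mul _ m1 _ m2, T.zc_mul _ (mul_mem (mul_mem m1 m2) m3) _ (T.E_le hd),
    T.zc_mul _ (mul_mem m1 m2) _ m3, T.zc_mul _ m1 _ m2, (T.ker' _ hd).2.1, (T.ker' _ hd).2.2, cx, cz,
    a2, a3, b2, b3, add_zero, add_zero, add_zero]
  exact ⟨rfl, rfl⟩

theorem conj_xc {p : G} (hp : p ∈ T.P) :
    T.xc (g * p * g⁻¹) = T.ec p * T.x0 g + T.gam g (T.xc p) + pol T.σ (T.z0 g) (T.lmap g (T.zc p)) :=
  (T.conj_co hg hp).1

theorem conj_zc {p : G} (hp : p ∈ T.P) : T.zc (g * p * g⁻¹) = T.ec p * T.z0 g + T.lmap g (T.zc p) :=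
  (T.conj_co hg hp).2

theorem lmap_add (z w : L) : T.lmap g (z + w) = T.lmap g z + T.lmap g w := by
  obtain ⟨y, hy, y1, y2, y3⟩ := T.onto 0 z (map_zero _)
  obtain ⟨k, hk, k1, k2, k3⟩ := T.onto 0 w (map_zero _)
  have h := T.zc_mul _ (T.nor_conj hg hy) _ (T.nor_conj hg hk)
  rw [show g * y * g⁻¹ * (g * k * g⁻¹) = g * (y * k) * g⁻¹ by group, T.conj_zc hg (mul_mem hy hk),
    T.conj_zc hg hy, T.conj_zc hg hk, T.ec_mul y hy k hk, T.zc_mul y hy k hk, y1, k1, y3, k3, add_zero,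
    zero_mul, zero_add, zero_add, zero_add] at h
  exact h

theorem lmap_zero : T.lmap g 0 = 0 := by
  have h := T.lmap_add hg 0 0
  rwa [add_zero, left_eq_add] at h

theorem z0_conj {k : G} (hk : k ∈ T.nor) : T.z0 (g * k) = T.z0 g + T.lmap g (T.z0 k) := by
  have h := T.conj_zc hg (T.nor_conj hk T.u_mem)
  rw [T.ec_conj hk T.u_mem, T.u_co.1, one_mul] at h
  show T.zc (g * k * T.u * (g * k)⁻¹) = _
  rw [show g * k * T.u * (g * k)⁻¹ = g * (k * T.u * k⁻¹) * g⁻¹ by group, h]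
  rfl

theorem x0_conj {k : G} (hk : k ∈ T.nor) :
    T.x0 (g * k) = T.x0 g + T.gam g (T.x0 k) + pol T.σ (T.z0 g) (T.lmap g (T.z0 k)) := by
  have h := T.conj_xc hg (T.nor_conj hk T.u_mem)
  rw [T.ec_conj hk T.u_mem, T.u_co.1, one_mul] at h
  show T.xc (g * k * T.u * (g * k)⁻¹) = _
  rw [show g * k * T.u * (g * k)⁻¹ = g * (k * T.u * k⁻¹) * g⁻¹ by group, h]
  rfl

theorem lmap_conj {k : G} (hk : k ∈ T.nor) (z : L) : T.lmap (g * k) z = T.lmap g (T.lmap k z) := by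
  obtain ⟨y, hy, y1, y2, y3⟩ := T.onto 0 z (map_zero _)
  have h1 := T.conj_zc (mul_mem hg hk) hy
  have h2 := T.conj_zc hg (T.nor_conj hk hy)
  rw [T.ec_conj hk hy, T.conj_zc hk hy, y1, y3, zero_mul, zero_mul, zero_add, zero_add] at h2
  rw [show g * k * y * (g * k)⁻¹ = g * (k * y * k⁻¹) * g⁻¹ by group, h2, y1, y3, zero_mul, zero_add] at h1
  exact h1.symm

theorem gam_conj {k : G} (hk : k ∈ T.nor) {x : L} (hx : T.σ x = x) :
    T.gam (g * k) x = T.gam g (T.gam k x) := by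
  obtain ⟨h1, h2⟩ := T.ei_mem x hx
  show T.η (g * k * T.ei x * (g * k)⁻¹) = T.gam g (T.η (k * T.ei x * k⁻¹))
  rw [← T.gam_eta hg (T.nor_E hk h1)]
  congr 1
  group

theorem x0_fix : T.σ (T.x0 g) = T.x0 g := T.xc_fix _ (T.nor_conj hg T.u_mem)

/-- The square of the image of `u`. -/
theorem sq_u : T.x0 g + T.lam (T.x0 g) + nrm T.σ (T.z0 g) = 0 := by
  have h := T.sq _ (T.nor_conj hg T.u_mem)
  rw [show g * T.u * g⁻¹ * (g * T.u * g⁻¹) = g * (T.u * T.u) * g⁻¹ by group, T.u_sq, mul_one,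
    mul_inv_cancel, T.eta_one, T.ec_conj hg T.u_mem, T.u_co.1, one_mul] at h
  exact h.symm

/-- The norm defect. -/
theorem defect (z : L) :
    nrm T.σ (T.lmap g z) + T.gam g (nrm T.σ z) = T.lam (pol T.σ (T.z0 g) (T.lmap g z)) := by
  obtain ⟨y, hy, y1, y2, y3⟩ := T.onto 0 z (map_zero _)
  have h := T.sq _ (T.nor_conj hg hy)
  rw [T.ec_conj hg hy, T.conj_xc hg hy, T.conj_zc hg hy,
    show g * y * g⁻¹ * (g * y * g⁻¹) = g * (y * y) * g⁻¹ by group, T.gam_eta hg (T.sq_mem y hy), T.sq y hy,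
    y1, y2, y3, T.lam_zero, T.gam_zero hg] at h
  simp only [zero_mul, zero_add, add_zero] at h
  linear_combination h + (nrm T.σ (T.lmap g z)) * two_zero (L := L)

/-- `lam` commutes with the action. -/
theorem lam_gam {x : L} (hx : T.σ x = x) : T.lam (T.gam g x) = T.gam g (T.lam x) := by
  obtain ⟨p, hp, p1, p2, p3⟩ := T.onto x 0 hx
  have h := T.sq _ (T.nor_conj hg hp)
  rw [T.ec_conj hg hp, T.conj_xc hg hp, T.conj_zc hg hp,
    show g * p * g⁻¹ * (g * p * g⁻¹) = g * (p * p) * g⁻¹ by group, T.gam_eta hg (T.sq_mem p hp), T.sq p hp,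
    p1, p2, p3, T.lmap_zero hg, pol_zero_right] at h
  simp only [zero_mul, zero_add, add_zero, nrm_zero] at h
  exact h.symm

end

theorem gam_of_cent {g : G} (hg : ∀ e ∈ T.E, Commute g e) {x : L} (hx : T.σ x = x) : T.gam g x = x := by
  obtain ⟨h1, h2⟩ := T.ei_mem x hx
  show T.η (g * T.ei x * g⁻¹) = x
  rw [(hg _ h1).eq, mul_inv_cancel_right, h2]

theorem lmap_one (z : L) : T.lmap 1 z = z := by
  obtain ⟨y, hy, y1, -, y3⟩ := T.onto 0 z (map_zero _)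
  have h := T.conj_zc (one_mem T.nor) hy
  rw [y1, y3, zero_mul, zero_add, one_mul, inv_one, mul_one, y3] at h
  exact h.symm

theorem x0_one : T.x0 1 = 0 := by
  show T.xc (1 * T.u * 1⁻¹) = 0
  rw [one_mul, inv_one, mul_one, T.u_co.2.1]

theorem z0_one : T.z0 1 = 0 := by
  show T.zc (1 * T.u * 1⁻¹) = 0
  rw [one_mul, inv_one, mul_one, T.u_co.2.2]

theorem lmap_inj {g : G} (hg : g ∈ T.nor) : Function.Injective (T.lmap g) :=
  Function.LeftInverse.injective (g := T.lmap g⁻¹) fun z => by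
    rw [← T.lmap_conj (inv_mem hg) hg, inv_mul_cancel, T.lmap_one]

theorem lmap_pow {g : G} (hg : g ∈ T.nor) : ∀ (n : ℕ) (z : L), T.lmap (g ^ n) z = (T.lmap g)^[n] z
  | 0, z => by rw [pow_zero, T.lmap_one]; rfl
  | n + 1, z => by
    rw [pow_succ', T.lmap_conj hg (pow_mem hg n), lmap_pow hg n, Function.iterate_succ_apply']

theorem pol_lmap {g : G} (hg : g ∈ T.nor) (z w : L) :
    pol T.σ (T.lmap g z) (T.lmap g w) = T.gam g (pol T.σ z w) :=
  polar T.invol (T.lmap_add hg) (fun _ _ => T.gam_add hg) (fun z w => by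
    rw [T.defect hg, T.defect hg, T.defect hg, T.lmap_add hg, pol_add_right,
      T.lam_add _ _ (pol_fix T.invol _ _) (pol_fix T.invol _ _)]) z w

theorem gam_semi {g : G} (hg : g ∈ T.nor) : Semi T.σ (T.gam g) :=
  (semi_of_pol T.invol (T.lmap_inj hg) (T.lmap_add hg) (fun _ => T.gam_fix hg) (fun _ _ => T.gam_add hg)
    (fun _ => T.gam_inj hg) (T.pol_lmap hg)).1

/-- A torus transitive on `E`, fixing the coordinates of `u`. -/
theorem exists_torus : ∃ g ∈ T.nor, Odd (orderOf g) ∧ T.x0 g = 0 ∧ T.z0 g = 0 ∧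
    ∀ e f, T.σ e = e → T.σ f = f → e ≠ 0 → f ≠ 0 → ∃ j : ℕ, T.gam (g ^ j) e = f := by
  have hu : T.t * T.u * T.t⁻¹ = T.u := by rw [T.mod.h_cent.1.eq, mul_inv_cancel_right]
  have ht : T.t ∈ T.nor := T.mem_nor T.mod.h_fix.1 fun p hp => by
    obtain ⟨r, hr, x, hx, y, hy, rfl⟩ := T.mod.gen p hp
    rw [show T.t * (r * x * y) * T.t⁻¹ = T.t * r * T.t⁻¹ * (T.t * x * T.t⁻¹) * (T.t * y * T.t⁻¹) by group]
    refine mul_mem (mul_mem ?_ (T.mod.X_le (T.mod.h_norm.2.1 x hx))) (T.mod.Q_le (T.mod.h_norm.2.2 y hy))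
    rw [(T.mod.h_cent.2 r hr).eq, mul_inv_cancel_right]
    exact T.mod.R_le hr
  refine ⟨T.t, ht, T.mod.h_odd, ?_, ?_, fun e f he hf he0 hf0 => ?_⟩
  · show T.xc _ = 0
    rw [hu, T.u_co.2.1]
  · show T.zc _ = 0
    rw [hu, T.u_co.2.2]
  · obtain ⟨h1, h2⟩ := T.ei_mem e he
    obtain ⟨h3, h4⟩ := T.ei_mem f hf
    obtain ⟨j, hj⟩ := T.mod.h_trans _ h1 _ h3 (fun h => he0 (by rw [← h2, h, T.eta_one]))
      (fun h => hf0 (by rw [← h4, h, T.eta_one]))
    exact ⟨j, by show T.η _ = f; rw [hj, h4]⟩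

/-- An element centralising `E` and rotating `Q`. -/
theorem exists_rot : ∃ g ∈ T.nor, (∀ e ∈ T.E, Commute g e) ∧ T.x0 g = 0 ∧ T.z0 g = 0 ∧
    ∃ m, nrm T.σ m = 1 ∧ m ≠ 1 ∧ ∀ z, T.lmap g z = m * z := by
  obtain ⟨g, hodd, hga, -, hgu, hgR, hgE, hgX, hgQ, hfree⟩ := T.mod.zeta rfl
  have hu : g * T.u * g⁻¹ = T.u := by rw [hgu.eq, mul_inv_cancel_right]
  have hg : g ∈ T.nor := T.mem_nor hga fun p hp => by
    obtain ⟨r, hr, x, hx, y, hy, rfl⟩ := T.mod.gen p hp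
    rw [show g * (r * x * y) * g⁻¹ = g * r * g⁻¹ * (g * x * g⁻¹ * x⁻¹ * x) * (g * y * g⁻¹) by group]
    refine mul_mem (mul_mem ?_ (mul_mem (T.E_le (hgX x hx)) (T.mod.X_le hx))) (T.mod.Q_le (hgQ y hy))
    rw [(hgR r hr).eq, mul_inv_cancel_right]
    exact T.mod.R_le hr
  have hz0 : T.z0 g = 0 := by show T.zc _ = 0; rw [hu, T.u_co.2.2]
  have hx0 : T.x0 g = 0 := by show T.xc _ = 0; rw [hu, T.u_co.2.1]
  refine ⟨g, hg, hgE, hx0, hz0, ?_⟩
  obtain ⟨m, hm, hcase⟩ := isometry_cases T.invol (T.lmap_add hg) fun z => by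
    have h := T.defect hg z
    rw [hz0, pol_zero_left, T.lam_zero, T.gam_of_cent hgE (nrm_fix T.invol z)] at h
    exact eq_of_add_zero h
  have hnid : ¬ ∀ z, T.lmap g z = z := fun hid => by
    obtain ⟨y, hy, y1, y2, y3⟩ := T.onto 0 1 (map_zero _)
    have hyQ := (T.Q_iff y).2 ⟨hy, y1, y2⟩
    obtain ⟨c1, c3, c2⟩ := T.conj_Q hg hyQ
    have h1 : y⁻¹ * (g * y * g⁻¹) ∈ T.E := T.inv_mul_mem hy (T.nor_conj hg hy) (by rw [c1, y1])
      (by rw [c2, hz0, pol_zero_left, y2]) (by rw [c3, hid])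
    have h2 : g * y * g⁻¹ * y⁻¹ ∈ T.E := by
      rwa [show g * y * g⁻¹ * y⁻¹ = y * (y⁻¹ * (g * y * g⁻¹)) * y⁻¹ by group, (T.Ec hy h1).eq,
        mul_inv_cancel_right]
    have h3 := (T.ker' y (hfree y hyQ h2)).2.2
    rw [y3] at h3
    exact one_ne_zero h3
  rcases hcase with h | h
  · exact ⟨m, hm, fun h1 => hnid fun z => by rw [h, h1, one_mul], h⟩
  · refine absurd (fun z => ?_) hnid
    have hinv : ∀ z, T.lmap g (T.lmap g z) = z := fun z => by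
      rw [h, h, map_mul, T.invol.invol, ← mul_assoc, show m * T.σ m = 1 from hm, one_mul]
    obtain ⟨k, hk⟩ := hodd
    have h1 := T.lmap_pow hg (orderOf g) z
    rw [pow_orderOf_eq_one, T.lmap_one, hk, Function.iterate_add_apply, Function.iterate_mul, Function.iterate_one] at h1
    rw [show (T.lmap g)^[2] = id from funext hinv, Function.iterate_id, id_eq] at h1
    exact h1.symm

end Three

end CfsgLib.AschCrit.EndThree
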