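import Cfsg.Agent.Lib.Invol.AschCrit.EndThree.Fixed

/-!
Owner: helper29. Aschbacher's criterion, end game of unitary type: `C(E)` moves the class of `u`; the Sylow
group `S` of the translations of the class.

* `Three.Moving`: `S`, of order `2 q ^ 5`, and a torus `n` normalising it and fixing the coordinates of `u`.
* `Three.exists_moving`: it exists.
* `Three.Moving.max`, `Three.Moving.center`, `Three.Moving.second`: it is maximal in `C(E)`; its centre is `E`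
  and its second centre is `X Q`.
-/

set_option autoImplicit false
set_option linter.unusedSectionVars false
set_option linter.style.haveILetI false

namespace CfsgLib.AschCrit.EndThree

open Subgroup MulAction CfsgLib.Classical.Herm

universe u

variable {G : Type u} [Group G] [Finite G] {Ω : Type u} [MulAction G Ω]

theorem odd_nsmul {L : Type*} [Field L] [CharP L 2] {k : ℕ} (hk : Odd k) (x : L) : (k : L) * x = x := by
  obtain ⟨j, rfl⟩ := hk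
  rw [Nat.cast_add, Nat.cast_mul, Nat.cast_two, two_zero (L := L), zero_mul, zero_add, Nat.cast_one, one_mul]

namespace Three

variable {D : Set G} {L : Type} [Field L] [Finite L] [CharP L 2] (T : Three Ω D L)

/-- The Sylow group of the translations of the class of `u`, and a torus normalising it. -/
structure Moving (S : Subgroup G) (n : G) : Prop where
  nodvd : ¬ T.q ^ 6 ∣ Nat.card Ω - 1
  two : IsPGroup 2 S
  P_le : T.P ≤ S
  le_n1 : S ≤ T.n1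
  triv : ∀ g ∈ S, ∀ z, T.lmap g z = z
  onto : ∀ x, T.σ x = x → ∃ g ∈ S, T.x0 g = x
  n_fix : n ∈ T.fix0
  n_norm : ∀ g ∈ S, n * g * n⁻¹ ∈ S
  n_trans : ∀ e f, T.σ e = e → T.σ f = f → e ≠ 0 → f ≠ 0 → ∃ j : ℕ, T.gam (n ^ j) e = f
  n_period : ∃ k : ℕ, Odd k ∧ ∀ e, T.σ e = e → T.gam (n ^ k) e = e

include T

theorem x0_add (hn : ¬ T.q ^ 6 ∣ Nat.card Ω - 1) {g k : G} (hg : g ∈ T.n1) (hk : k ∈ T.nor) :
    T.x0 (g * k) = T.x0 g + T.x0 k := by
  rw [T.x0_conj (T.n1_le hg) hk, T.gam_n1 hg (T.x0_fix hk), T.z0_nor hn (T.n1_le hg), pol_zero_left, add_zero]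

theorem x0_pow (hn : ¬ T.q ^ 6 ∣ Nat.card Ω - 1) {g : G} (hg : g ∈ T.n1) :
    ∀ k : ℕ, T.x0 (g ^ k) = (k : L) * T.x0 g
  | 0 => by rw [pow_zero, T.x0_one, Nat.cast_zero, zero_mul]
  | k + 1 => by
    rw [pow_succ, T.x0_add hn (pow_mem hg k) (T.n1_le hg), x0_pow hn hg k, Nat.cast_add, Nat.cast_one, add_mul,
      one_mul]

theorem conj_n1 {g k : G} (hg : g ∈ T.nor) (hk : k ∈ T.n1) : g * k * g⁻¹ ∈ T.n1 :=
  T.mem_n1.2 ⟨mul_mem (mul_mem hg (T.n1_le hk)) (inv_mem hg), fun e he => by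
    have he' := T.nor_E (inv_mem hg) he
    rw [inv_inv] at he'
    have h := ((T.mem_n1.1 hk).2 _ he').map (MulAut.conj g).toMonoidHom
    simpa [mul_assoc] using h⟩

/-- `S` and the torus exist when `C(E)` moves the class. -/
theorem exists_moving (hn : ¬ T.q ^ 6 ∣ Nat.card Ω - 1) (hmove : ∃ g ∈ T.n1, T.x0 g ≠ 0) :
    ∃ S n, T.Moving S n := by
  classical
  haveI := Fact.mk Nat.prime_two
  obtain ⟨g₁, hg₁, hg₁0⟩ := hmove
  obtain ⟨t, ht, htodd, htx, htz, htr⟩ := T.exists_torus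
  have ht0 : t ∈ T.fix0 := T.mem_fix0.2 ⟨ht, htx, htz⟩
  -- the values on `C(E)`
  have hn1 : ∀ x, T.σ x = x → ∃ g ∈ T.n1, T.x0 g = x := by
    intro x hx
    rcases eq_or_ne x 0 with rfl | hx0
    · exact ⟨1, one_mem _, T.x0_one⟩
    obtain ⟨j, hj⟩ := htr _ _ (T.x0_fix (T.n1_le hg₁)) hx hg₁0 hx0
    obtain ⟨hj1, hj2, hj3⟩ := pow_mem ht0 j
    exact ⟨t ^ j * g₁ * (t ^ j)⁻¹, T.conj_n1 hj1 hg₁, by rw [T.x0_conj_eq hj1 (T.n1_le hg₁) hj2 hj3, hj]⟩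
  let Tr : Subgroup G :=
    { carrier := {k | k ∈ T.n1 ∧ ∀ z, T.lmap k z = z}
      one_mem' := ⟨one_mem _, T.lmap_one⟩
      mul_mem' := fun {k k'} hk hk' => ⟨mul_mem hk.1 hk'.1, fun z => by
        rw [T.lmap_conj (T.n1_le hk.1) (T.n1_le hk'.1), hk'.2, hk.2]⟩
      inv_mem' := fun {k} hk => ⟨inv_mem hk.1, fun z => by
        conv_lhs => rw [← hk.2 z]
        rw [← T.lmap_conj (T.n1_le (inv_mem hk.1)) (T.n1_le hk.1), inv_mul_cancel, T.lmap_one]⟩ }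
  have hTr : ∀ x ∈ T.nor, ∀ k ∈ Tr, x * k * x⁻¹ ∈ Tr := fun x hx k hk =>
    ⟨T.conj_n1 hx hk.1, T.lmap_conj_id hx (T.n1_le hk.1) hk.2⟩
  have hiso : ∀ g ∈ T.n1, ∀ z, nrm T.σ (T.lmap g z) = nrm T.σ z := fun g hg z => by
    have h := T.defect (T.n1_le hg) z
    rw [T.z0_nor hn (T.n1_le hg), pol_zero_left, T.lam_zero, T.gam_n1 hg (nrm_fix T.invol z)] at h
    exact eq_of_add_zero h
  obtain ⟨g₂, hg₂, m, hm, hg₂l, hg₂0⟩ : ∃ g ∈ T.n1, ∃ m, nrm T.σ m = 1 ∧ (∀ z, T.lmap g z = m * z) ∧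
      T.x0 g ≠ 0 := by
    obtain ⟨c, hc, hc0, hc1⟩ := T.exists_outside 1
    obtain ⟨g, hg, hgx⟩ := hn1 1 (map_one _)
    obtain ⟨k, hk, hkx⟩ := hn1 c hc
    obtain ⟨m, hm, h | h⟩ := isometry_cases T.invol (T.lmap_add (T.n1_le hg)) (hiso g hg)
    · exact ⟨g, hg, m, hm, h, by rw [hgx]; exact one_ne_zero⟩
    obtain ⟨m', hm', h' | h'⟩ := isometry_cases T.invol (T.lmap_add (T.n1_le hk)) (hiso k hk)
    · exact ⟨k, hk, m', hm', h', by rw [hkx]; exact hc0⟩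
    refine ⟨g * k, mul_mem hg hk, m * T.σ m', ?_, fun z => ?_, fun e => hc1 ?_⟩
    · rw [nrm_mul, hm, one_mul, show nrm T.σ (T.σ m') = nrm T.σ m' by
        unfold nrm; rw [T.invol.invol, mul_comm], hm']
    · rw [T.lmap_conj (T.n1_le hg) (T.n1_le hk), h', h, map_mul, T.invol.invol, mul_assoc]
    · rw [T.x0_add hn hg (T.n1_le hk), hgx, hkx] at e
      exact (eq_of_add_zero e).symm
  obtain ⟨g₃, hg₃, hg₃0⟩ : ∃ g ∈ Tr, T.x0 g ≠ 0 := by
    refine ⟨g₂ ^ (2 ^ T.s + 1), ⟨pow_mem hg₂ _, fun z => ?_⟩, ?_⟩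
    · have hit : ∀ k : ℕ, (T.lmap g₂)^[k] z = m ^ k * z := by
        intro k
        induction k with
        | zero => rw [pow_zero, one_mul]; rfl
        | succ k ih => rw [Function.iterate_succ_apply', ih, hg₂l, pow_succ']; ring
      rw [T.lmap_pow (T.n1_le hg₂), hit, pow_succ, ← T.card_fix, ← T.invol.apply_eq_pow,
        mul_comm (T.σ m), show m * T.σ m = 1 from hm, one_mul]
    · have ho : Odd (2 ^ T.s + 1) :=
        Even.add_one (Nat.even_pow.2 ⟨even_two, by have := T.two_s; omega⟩)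
      rw [T.x0_pow hn hg₂, odd_nsmul ho]
      exact hg₂0
  obtain ⟨S, hS2, hPS, hSTr, -, hSconj⟩ := exists_max_two T.mod.two (H := Tr)
    (fun p hp => ⟨T.P_le_n1 hp, (T.P_act hp).2⟩)
  have hSn : ∀ g ∈ S, g ∈ T.n1 := fun g hg => (hSTr hg).1
  have honto : ∀ x, T.σ x = x → ∃ g ∈ S, T.x0 g = x := by
    intro x hx
    rcases eq_or_ne x 0 with rfl | hx0
    · exact ⟨1, one_mem _, T.x0_one⟩
    obtain ⟨j, hj⟩ := htr _ _ (T.x0_fix (T.n1_le hg₃.1)) hx hg₃0 hx0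
    obtain ⟨hj1, hj2, hj3⟩ := pow_mem ht0 j
    set k := t ^ j * g₃ * (t ^ j)⁻¹ with hk
    have hkT : k ∈ Tr := hTr _ hj1 _ hg₃
    have hkx : T.x0 k = x := by rw [hk, T.x0_conj_eq hj1 (T.n1_le hg₃.1) hj2 hj3, hj]
    obtain ⟨a, m', hm', ho⟩ := Nat.exists_eq_two_pow_mul_odd (orderOf_pos k).ne'
    have h2 : (k ^ m') ^ 2 ^ a = 1 := by rw [← pow_mul, mul_comm, ← ho, pow_orderOf_eq_one]
    have hp2 : IsPGroup 2 (zpowers (k ^ m')) := by
      rintro ⟨_, i, rfl⟩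
      refine ⟨a, Subtype.ext ?_⟩
      show ((k ^ m') ^ i) ^ 2 ^ a = 1
      rw [← zpow_natCast, ← zpow_mul, mul_comm, zpow_mul, zpow_natCast, h2, one_zpow]
    obtain ⟨g, hg, hgS⟩ := hSconj _ hp2 (zpowers_le.2 (pow_mem hkT _))
    refine ⟨g * k ^ m' * g⁻¹, hgS _ (mem_zpowers _), ?_⟩
    have hg1 : g ∈ T.n1 := hg.1
    have hkm : k ^ m' ∈ T.n1 := pow_mem hkT.1 _
    have h1 : T.x0 g + T.x0 g⁻¹ = 0 := by
      rw [← T.x0_add hn hg1 (inv_mem (T.n1_le hg1)), mul_inv_cancel, T.x0_one]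
    rw [T.x0_add hn (mul_mem hg1 hkm) (T.n1_le (inv_mem hg1)), T.x0_add hn hg1 (T.n1_le hkm), T.x0_pow hn hkT.1,
      odd_nsmul hm', hkx]
    linear_combination h1
  -- the torus normalising `S`
  have htS : IsPGroup 2 (S.map (MulAut.conj t).toMonoidHom) := hS2.map _
  obtain ⟨k, hk, hkS⟩ := hSconj _ htS (by
    rintro _ ⟨g, hg, rfl⟩
    exact hTr t ht g (hSTr hg))
  have hkt : k * t ∈ T.nor := mul_mem (T.n1_le hk.1) ht
  obtain ⟨s, hs, hsx⟩ := honto _ (T.x0_fix hkt)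
  refine ⟨S, s⁻¹ * (k * t), hn, hS2, hPS, hSn, fun g hg => (hSTr hg).2, honto, ?_, fun g hg => ?_, ?_, ?_⟩
  · refine T.mem_fix0.2 ⟨mul_mem (T.n1_le (inv_mem (hSn s hs))) hkt, ?_,
      T.z0_nor hn (mul_mem (T.n1_le (inv_mem (hSn s hs))) hkt)⟩
    have h1 : T.x0 s⁻¹ + T.x0 s = 0 := by
      rw [← T.x0_add hn (inv_mem (hSn s hs)) (T.n1_le (hSn s hs)), inv_mul_cancel, T.x0_one]
    rw [T.x0_add hn (inv_mem (hSn s hs)) hkt, ← hsx, h1]
  · rw [show s⁻¹ * (k * t) * g * (s⁻¹ * (k * t))⁻¹ = s⁻¹ * (k * (t * g * t⁻¹) * k⁻¹) * s by group]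
    exact mul_mem (mul_mem (inv_mem hs) (hkS _ ⟨g, hg, rfl⟩)) hs
  all_goals
    have hgam : ∀ (j : ℕ) (e : L), T.σ e = e → T.gam ((s⁻¹ * (k * t)) ^ j) e = T.gam (t ^ j) e := by
      have hn0 : s⁻¹ * (k * t) ∈ T.nor := mul_mem (T.n1_le (inv_mem (hSn s hs))) hkt
      intro j
      induction j with
      | zero => intro e _; rw [pow_zero, pow_zero]
      | succ j ih =>
        intro e he
        have he1 : T.σ (T.gam t e) = T.gam t e := T.gam_fix ht he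
        rw [pow_succ, pow_succ, T.gam_conj (pow_mem hn0 j) hn0 he, T.gam_conj (pow_mem ht j) ht he,
          T.gam_conj (T.n1_le (inv_mem (hSn s hs))) hkt he, T.gam_n1 (inv_mem (hSn s hs)) (T.gam_fix hkt he),
          T.gam_conj (T.n1_le hk.1) ht he, T.gam_n1 hk.1 he1, ih _ he1]
  · intro e f he hf he0 hf0
    obtain ⟨j, hj⟩ := htr e f he hf he0 hf0
    exact ⟨j, by rw [hgam j e he, hj]⟩
  · exact ⟨orderOf t, htodd, fun e he => by
      rw [hgam _ e he, pow_orderOf_eq_one, T.gam_of_cent (fun e _ => Commute.one_left e) he]⟩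

namespace Moving

variable {T} {S : Subgroup G} {n : G} (M : T.Moving S n)
include M

theorem x0_mul {g k : G} (hg : g ∈ S) (hk : k ∈ T.nor) : T.x0 (g * k) = T.x0 g + T.x0 k :=
  T.x0_add M.nodvd (M.le_n1 hg) hk

theorem x0_inv {g : G} (hg : g ∈ S) : T.x0 g⁻¹ = T.x0 g := by
  have h := M.x0_mul (inv_mem hg) (T.n1_le (M.le_n1 hg))
  rw [inv_mul_cancel, T.x0_one] at h
  exact eq_of_add_zero h.symm

theorem x0_conj {g : G} (hg : g ∈ S) : T.x0 (n * g * n⁻¹) = T.gam n (T.x0 g) :=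
  T.x0_conj_eq M.n_fix.1 (T.n1_le (M.le_n1 hg)) M.n_fix.2.1 M.n_fix.2.2

/-- `S` acts trivially on `X Q / E`. -/
theorem act {g p : G} (hg : g ∈ S) (hp : p ∈ T.PX) : g * p * g⁻¹ * p⁻¹ ∈ T.E := by
  have hgn := T.n1_le (M.le_n1 hg)
  obtain ⟨i1, i2, i3⟩ := T.co_inv hp.1
  have h := T.nor_conj hgn hp.1
  refine T.ker _ (mul_mem h (inv_mem hp.1)) ?_ ?_ ?_
  · rw [T.ec_mul _ h _ (inv_mem hp.1), T.ec_conj hgn hp.1, i1, CharTwo.add_self_eq_zero]
  · rw [T.xc_mul _ h _ (inv_mem hp.1), T.conj_xc hgn hp.1, hp.2, T.z0_nor M.nodvd hgn, pol_zero_left,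
      T.gam_n1 (M.le_n1 hg) (T.xc_fix p hp.1), i2, zero_mul, zero_add, add_zero, CharTwo.add_self_eq_zero]
  · rw [T.zc_mul _ h _ (inv_mem hp.1), T.conj_zc hgn hp.1, hp.2, M.triv g hg, i3, zero_mul, zero_add,
      CharTwo.add_self_eq_zero]

/-- A two-group in `C(E)` over `S` is `S`. -/
theorem max (K : Subgroup G) (hK : IsPGroup 2 K) (hSK : S ≤ K) (hKn : K ≤ T.n1) : K = S := by
  have hK' : K ⊓ T.fix0 = T.P := T.fixed_le _ (hK.to_le inf_le_left)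
    (le_inf (M.P_le.trans hSK) fun p hp => (T.P_act hp).1) (inf_le_left.trans hKn) inf_le_right
  refine le_antisymm (fun g hg => ?_) hSK
  have hgn := T.n1_le (hKn hg)
  obtain ⟨s, hs, hsx⟩ := M.onto _ (T.x0_fix hgn)
  have hd : s⁻¹ * g ∈ T.P := hK' ▸ (⟨(K.mul_mem (K.inv_mem (hSK hs)) hg : s⁻¹ * g ∈ K), T.mem_fix0.2
    ⟨mul_mem (T.n1_le (inv_mem (M.le_n1 hs))) hgn,
      by rw [M.x0_mul (inv_mem hs) hgn, M.x0_inv hs, hsx, CharTwo.add_self_eq_zero],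
      T.z0_nor M.nodvd (mul_mem (T.n1_le (inv_mem (M.le_n1 hs))) hgn)⟩⟩ : s⁻¹ * g ∈ K ⊓ T.fix0)
  rw [← mul_inv_cancel_left s g]
  exact mul_mem hs (M.P_le hd)

theorem mem_P {g : G} (hg : g ∈ S) (h0 : T.x0 g = 0) : g ∈ T.P := by
  have hK' : S ⊓ T.fix0 = T.P := T.fixed_le _ (M.two.to_le inf_le_left)
    (le_inf M.P_le fun p hp => (T.P_act hp).1) (inf_le_left.trans M.le_n1) inf_le_right
  exact hK' ▸ (⟨hg, T.mem_fix0.2 ⟨T.n1_le (M.le_n1 hg), h0, T.z0_nor M.nodvd (T.n1_le (M.le_n1 hg))⟩⟩ :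
    g ∈ S ⊓ T.fix0)

theorem card_S : Nat.card S = 2 * T.q ^ 5 := by
  classical
  choose f hf hfx using fun x : fixedSub T.σ => M.onto x x.2
  have hb : Function.Bijective (fun x : fixedSub T.σ × T.P => (⟨f x.1 * x.2, mul_mem (hf x.1) (M.P_le x.2.2)⟩ : S)) := by
    have hx : ∀ (x : fixedSub T.σ) (p : T.P), T.x0 (f x * p) = x := fun x p => by
      rw [M.x0_mul (hf x) (T.P_le_nor p.2), (T.P_act p.2).1.2.1, add_zero, hfx]
    refine ⟨fun x y e => ?_, fun g => ?_⟩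
    · have e' : f x.1 * (x.2 : G) = f y.1 * y.2 := congrArg Subtype.val e
      have h1 : x.1 = y.1 := Subtype.ext (by rw [← hx x.1 x.2, e', hx])
      rw [h1] at e'
      exact Prod.ext h1 (Subtype.ext (mul_left_cancel e'))
    · obtain ⟨g, hg⟩ := g
      set x : fixedSub T.σ := ⟨T.x0 g, T.x0_fix (T.n1_le (M.le_n1 hg))⟩ with hx'
      refine ⟨(x, ⟨(f x)⁻¹ * g, M.mem_P (mul_mem (inv_mem (hf x)) hg) ?_⟩), Subtype.ext (mul_inv_cancel_left _ _)⟩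
      rw [M.x0_mul (inv_mem (hf x)) (T.n1_le (M.le_n1 hg)), M.x0_inv (hf x), hfx]
      exact CharTwo.add_self_eq_zero _
  rw [← Nat.card_congr (Equiv.ofBijective _ hb), Nat.card_prod, T.card_fix, T.card_P, ← T.q_eq]
  ring

/-- The centre of `S` is in `E`. -/
theorem center {c : G} (hc : c ∈ S) (h : ∀ g ∈ S, Commute c g) : c ∈ T.E := by
  have hx : T.x0 c = 0 := by
    show T.xc (c * T.u * c⁻¹) = 0
    rw [(h T.u (M.P_le T.u_mem)).eq, mul_inv_cancel_right, T.u_co.2.1]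
  have hcP := M.mem_P hc hx
  have hzero : ∀ p, p ∈ T.P → T.ec c * T.xc p + T.ec p * T.xc c + pol T.σ (T.zc c) (T.zc p) = 0 := fun p hp => by
    rw [← T.comm_eq hcP hp, show c * p * c⁻¹ * p⁻¹ = 1 by
      rw [(h p (M.P_le hp)).eq, mul_inv_cancel_right, mul_inv_cancel], T.eta_one]
  have h2 := hzero T.u T.u_mem
  rw [T.u_co.1, T.u_co.2.1, T.u_co.2.2, mul_zero, one_mul, pol_zero_right, zero_add, add_zero] at h2
  obtain ⟨k, hk, k1, k2, k3⟩ := T.onto 1 0 (map_one _)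
  have h1 := hzero k hk
  rw [k1, k2, k3, zero_mul, mul_one, pol_zero_right, add_zero, add_zero] at h1
  refine T.ker c hcP h1 h2 ?_
  by_contra hz
  obtain ⟨w, hw⟩ := exists_pol T.invol hz (map_one T.σ)
  obtain ⟨y, hy, y1, y2, y3⟩ := T.onto 0 w (map_zero _)
  have h3 := hzero y hy
  rw [y1, y2, y3, hw, mul_zero, zero_mul, zero_add, zero_add] at h3
  exact one_ne_zero h3

/-- The second centre of `S` is in `X Q`. -/
theorem second {c : G} (hc : c ∈ S) (h : ∀ g ∈ S, c * g * c⁻¹ * g⁻¹ ∈ T.E) : c ∈ T.PX := by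
  have hx : T.x0 c = 0 := by
    show T.xc (c * T.u * c⁻¹) = 0
    have h1 := h T.u (M.P_le T.u_mem)
    rw [show c * T.u * c⁻¹ = c * T.u * c⁻¹ * T.u⁻¹ * T.u by group, T.xc_mul _ (T.E_le h1) _ T.u_mem,
      (T.ker' _ h1).2.1, T.u_co.2.1, add_zero]
  have hcP := M.mem_P hc hx
  obtain ⟨g, hg, hgx⟩ := M.onto 1 (map_one _)
  have hgn := T.n1_le (M.le_n1 hg)
  have h1 := h g hg
  have h2 : T.xc (g * c * g⁻¹) = T.xc c := by
    rw [show g * c * g⁻¹ = (c * g * c⁻¹ * g⁻¹)⁻¹ * c by group, T.xc_mul _ (T.E_le (inv_mem h1)) _ hcP,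
      (T.ker' _ (inv_mem h1)).2.1, zero_add]
  rw [T.conj_xc hgn hcP, hgx, T.z0_nor M.nodvd hgn, pol_zero_left, T.gam_n1 (M.le_n1 hg) (T.xc_fix c hcP),
    mul_one, add_zero] at h2
  exact ⟨hcP, by linear_combination h2⟩

end Moving

end Three

end CfsgLib.AschCrit.EndThree
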