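import Cfsg.Agent.Lib.Invol.AschCrit.EndThree.Movers
import Cfsg.Agent.Lib.Invol.AschCrit.Transfer
import Cfsg.Agent.Lib.Invol.AschCrit.Basics

/-!
Owner: helper29. Aschbacher's criterion, end game of unitary type: multis in `P` and transfer.

* `Three.card_cent_le`: a two-group at `a` centralising `E` and a multi has at most `2 q ^ 3` elements.
* `Three.no_multi`: a multi in `P` has `ec ≠ 0`.
* `Three.transfer_kill`: no self-normalising Sylow group with a hyperplane without multis.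
-/

set_option autoImplicit false
set_option linter.unusedSectionVars false
set_option linter.style.haveILetI false

namespace CfsgLib.AschCrit.EndThree

open Subgroup MulAction CfsgLib.Classical.Herm

universe u

variable {G : Type u} [Group G] [Finite G] {Ω : Type u} [MulAction G Ω]

namespace Three

variable {D : Set G} {L : Type} [Field L] [Finite L] [CharP L 2] (T : Three Ω D L)
include T

theorem two_part : 2 ^ padicValNat 2 (Nat.card (fixGrp T.u T.a T.b T.E)) = 2 := by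
  rw [← T.mod.R_card, T.R_two]

theorem multi_notMem {w : G} (hw : IsMulti Ω w) : w ∉ T.E := fun hE => by
  obtain ⟨h2, x, y, hxy, hx, hy⟩ := hw
  exact hxy (T.crit.fix_unique w (T.fr.data.mem w hE (CfsgLib.Signalizer.involution_ne_one h2)).1 x y hx hy)

theorem top_at {w : G} (hw : IsMulti Ω w) (hwa : w • T.a = T.a) (hwE : ∀ e ∈ T.E, Commute w e) :
    ∃ (y : Ω) (j : ℕ), TopFrame D w T.a y T.E T.q j := by
  have hF : MemGroup D w T.a T.E :=
    ⟨fun e he he1 => ⟨(T.fr.data.mem e he he1).1, (T.fr.data.mem e he he1).2.1, (hwE e he).symm⟩,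
      T.fr.data.comm⟩
  obtain ⟨y₀, E', q', j, hl⟩ := T.crit.exists_lData_of_memGroup (T.crit.localDichotomy T.faith T.below) hw hwa hF
    (T.fr.data.card_E.symm ▸ T.q_four)
  obtain ⟨hle, hmove⟩ := T.crit.memGroupLe w T.a y₀ E' q' j hl T.E hF
  have hq : q' = T.q :=
    le_antisymm (hl.card_E ▸ T.fr.top w T.a E' hw hwa ⟨hl.mem, hl.comm⟩) (T.fr.data.card_E ▸ hle)
  subst hq
  obtain ⟨y, hy⟩ := hmove T.fr.data.card_E
  exact ⟨y, j, hw, hy, T.fr.top⟩

/-- A two-group at `a` centralising `E` and a multi is small. -/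
theorem card_cent_le_top {w : G} {y : Ω} {j : ℕ} (ht : TopFrame D w T.a y T.E T.q j) (K : Subgroup G)
    (hK : IsPGroup 2 K) (hKa : ∀ g ∈ K, g • T.a = T.a) (hKw : ∀ g ∈ K, Commute g w)
    (hKE : ∀ g ∈ K, ∀ e ∈ T.E, Commute g e) : Nat.card K ≤ 2 * T.q ^ j := by
  classical
  haveI := T.crit.finite_points
  set S : Set Ω := {x | w • x = x ∧ x ≠ T.a} with hS
  have hScard : S.ncard = T.q ^ j := by
    have h1 : ({x : Ω | w • x = x} : Set Ω).ncard = T.q ^ j + 1 := by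
      rw [← Nat.card_coe_set_eq]; exact ht.data.card_fix
    rw [show S = {x : Ω | w • x = x} \ {T.a} from rfl, Set.ncard_sdiff (by simpa using ht.data.fix_a),
      Set.ncard_singleton, h1, Nat.add_sub_cancel]
  have hsub : orbit K y ⊆ S := by
    rintro _ ⟨g, rfl⟩
    refine ⟨?_, fun e => ht.data.ne (MulAction.injective (g : G) (e.trans (hKa g g.2).symm)).symm⟩
    show w • (g : G) • y = (g : G) • y
    rw [← mul_smul, ← (hKw g g.2).eq, mul_smul, ht.data.fix_b]
  have hidx : (stabilizer K y).index ≤ T.q ^ j := by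
    rw [index_stabilizer, ← hScard]
    exact Set.ncard_le_ncard hsub
  have hst := (T.orb T.u T.a T.b T.E T.q 3 T.fr K hK (fun g hg => ⟨hKa g hg, hKE g hg⟩)).1 y
    ht.data.ne.symm
  rw [T.two_part] at hst
  rw [← card_mul_index (stabilizer K y)]
  exact Nat.mul_le_mul hst hidx

/-- A two-group at `a` centralising `E` and a multi has at most `2 q ^ 3` elements. -/
theorem card_cent_le {w : G} (hw : IsMulti Ω w) (hwa : w • T.a = T.a) (hwE : ∀ e ∈ T.E, Commute w e)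
    (K : Subgroup G) (hK : IsPGroup 2 K) (hKa : ∀ g ∈ K, g • T.a = T.a) (hKw : ∀ g ∈ K, Commute g w)
    (hKE : ∀ g ∈ K, ∀ e ∈ T.E, Commute g e) : Nat.card K ≤ 2 * T.q ^ 3 := by
  obtain ⟨y, j, ht⟩ := T.top_at hw hwa hwE
  refine (T.card_cent_le_top ht K hK hKa hKw hKE).trans (Nat.mul_le_mul_left 2 ?_)
  have := T.q_four
  refine Nat.pow_le_pow_right (by omega) ?_
  rcases ht.data.type with h | h | h <;> omega

/-- The elements of `P` with `ec = 0`. -/
noncomputable def PX : Subgroup G where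
  carrier := {g | g ∈ T.P ∧ T.ec g = 0}
  one_mem' := ⟨one_mem _, T.co_one.1⟩
  mul_mem' := fun {g k} hg hk => ⟨mul_mem hg.1 hk.1, by rw [T.ec_mul g hg.1 k hk.1, hg.2, hk.2, add_zero]⟩
  inv_mem' := fun {g} hg => ⟨inv_mem hg.1, by rw [(T.co_inv hg.1).1, hg.2]⟩

theorem mem_PX {g : G} : g ∈ T.PX ↔ g ∈ T.P ∧ T.ec g = 0 := Iff.rfl

theorem PX_le : T.PX ≤ T.P := fun _ h => h.1

theorem relIndex_PX : T.PX.relIndex T.P = 2 := by
  rw [relIndex, index_eq_two_iff]
  refine ⟨⟨T.u, T.u_mem⟩, fun g => ?_⟩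
  simp only [mem_subgroupOf, Subgroup.coe_mul, T.mem_PX]
  rcases T.ec_cases g g.2 with h | h
  · refine Or.inr ⟨⟨g.2, h⟩, fun h' => ?_⟩
    have h1 := h'.2
    rw [T.ec_mul g g.2 T.u T.u_mem, h, T.u_co.1, zero_add] at h1
    exact one_ne_zero h1
  · refine Or.inl ⟨⟨mul_mem g.2 T.u_mem, ?_⟩, fun h' => ?_⟩
    · rw [T.ec_mul g g.2 T.u T.u_mem, h, T.u_co.1, CharTwo.add_self_eq_zero]
    · have h1 := h'.2
      rw [h] at h1
      exact one_ne_zero h1

theorem card_P : Nat.card T.P = T.q ^ 4 * 2 := by rw [T.mod.P_card, T.R_two]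

theorem card_PX : Nat.card T.PX = T.q ^ 4 := by
  have h := card_mul_index (T.PX.subgroupOf T.P)
  rw [Nat.card_congr (subgroupOfEquivOfLe T.PX_le).toEquiv, show (T.PX.subgroupOf T.P).index = 2 from T.relIndex_PX,
    T.card_P] at h
  exact Nat.eq_of_mul_eq_mul_right two_pos h

/-- The elements of `P` commuting with `w` are at least `|P| / q`. -/
theorem cent_ge {w : G} (hw : w ∈ T.P) : 2 * T.q ^ 3 ≤ Nat.card (T.P ⊓ centralizer {w} : Subgroup G) := by
  classical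
  let f : T.P →* T.E := MonoidHom.mk' (fun p => ⟨(p : G) * w * (p : G)⁻¹ * w⁻¹, T.comm_mem p.2 hw⟩)
    fun p k => Subtype.ext (by
      have hc := T.Ec p.2 (T.comm_mem k.2 hw)
      have hc2 := T.Ec (mul_mem (mul_mem (mul_mem p.2 hw) (inv_mem p.2)) (inv_mem hw)) (T.comm_mem k.2 hw)
      show (p : G) * k * w * ((p : G) * k)⁻¹ * w⁻¹ =
        ((p : G) * w * (p : G)⁻¹ * w⁻¹) * ((k : G) * w * (k : G)⁻¹ * w⁻¹)
      rw [hc2.eq]
      calc (p : G) * k * w * ((p : G) * k)⁻¹ * w⁻¹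
          = (p : G) * ((k : G) * w * (k : G)⁻¹ * w⁻¹) * (w * (p : G)⁻¹ * w⁻¹) := by group
        _ = _ := by rw [hc.eq]; group)
  have hker : Nat.card f.ker = Nat.card (T.P ⊓ centralizer {w} : Subgroup G) := by
    refine Nat.card_congr
      { toFun := fun x => ⟨(x.1 : G), x.1.2, mem_centralizer_singleton_iff.2
          (mul_inv_eq_iff_eq_mul.1 (mul_inv_eq_one.1 (congrArg Subtype.val x.2)))⟩
        invFun := fun x => ⟨⟨x.1, x.2.1⟩, MonoidHom.mem_ker.2 (Subtype.ext (by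
          show (x : G) * w * (x : G)⁻¹ * w⁻¹ = 1
          rw [mem_centralizer_singleton_iff.1 x.2.2, mul_inv_cancel_right, mul_inv_cancel]))⟩
        left_inv := fun x => rfl
        right_inv := fun x => rfl }
  have h := card_mul_index f.ker
  rw [index_ker, hker, T.card_P] at h
  have h1 : Nat.card f.range ≤ T.q := by rw [← T.fr.data.card_E]; exact Subgroup.card_le_card_group _
  have h2 := Nat.mul_le_mul_left (Nat.card (T.P ⊓ centralizer {w} : Subgroup G)) h1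
  rw [h] at h2
  have := T.q_four
  nlinarith

/-- A multi in `P` lies outside `X Q`. -/
theorem no_multi {w : G} (hw : w ∈ T.P) (hw0 : T.ec w = 0) (hm : IsMulti Ω w) : False := by
  classical
  haveI := Fact.mk Nat.prime_two
  have hwa := T.fix_a hw
  have hwE : ∀ e ∈ T.E, Commute w e := fun e he => T.Ec hw he
  have hq := T.q_four
  set C : Subgroup G := T.P ⊓ centralizer {w} with hC
  have hCp : IsPGroup 2 C := T.mod.two.to_le inf_le_left
  have hCw : ∀ g ∈ C, Commute g w := fun g hg => mem_centralizer_singleton_iff.1 hg.2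
  by_cases h3 : T.zc w = 0
  · have hle : T.PX ≤ C := fun p hp => ⟨hp.1, mem_centralizer_singleton_iff.2
      (mul_inv_eq_iff_eq_mul.1 (mul_inv_eq_one.1 (T.eta_inj _ (T.comm_mem hp.1 hw) (by
        rw [T.comm_eq hp.1 hw, hp.2, hw0, h3, zero_mul, zero_mul, pol_zero_right, add_zero, add_zero]))))⟩
    have h1 := (Nat.card_le_card_of_injective _ (inclusion_injective hle)).trans
      (T.card_cent_le hm hwa hwE C hCp (fun g hg => T.fix_a hg.1) hCw fun g hg e he => T.Ec hg.1 he)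
    rw [T.card_PX] at h1
    have : 0 < T.q ^ 3 := by positivity
    nlinarith [pow_succ T.q 3]
  obtain ⟨y, j, ht⟩ := T.top_at hm hwa hwE
  have hCle := T.card_cent_le_top ht C hCp (fun g hg => T.fix_a hg.1) hCw fun g hg e he => T.Ec hg.1 he
  have hCge := T.cent_ge hw
  have hj : j = 3 := by
    rcases ht.data.type with h | h | h
    rotate_left 2
    · exact h
    all_goals
      subst h
      have h5 : 2 * T.q ^ 3 ≤ 2 * T.q ^ 2 :=
        hCge.trans (hCle.trans (Nat.mul_le_mul_left 2 (Nat.pow_le_pow_right (by omega) (by norm_num))))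
      have : 0 < T.q ^ 2 := by positivity
      nlinarith [pow_succ T.q 2]
  subst hj
  have hCcard : Nat.card C = 2 * T.q ^ 3 := le_antisymm hCle hCge
  -- the base group at `w`
  have hw2 : orderOf w = 2 := hm.1
  set R' : Subgroup G := zpowers w with hR'
  have hR'c : Nat.card R' = 2 := by rw [Nat.card_zpowers, hw2]
  have hR'le : R' ≤ fixGrp w T.a y T.E :=
    zpowers_le.2 (mem_fixGrp.2 ⟨mem_centSub.2 ⟨hwa, Commute.refl w, hwE⟩, ht.data.fix_b⟩)
  have hfix2 : 2 ^ padicValNat 2 (Nat.card (fixGrp w T.a y T.E)) = 2 := by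
    refine le_antisymm ((T.fr.big w T.a y T.E 3 ht).trans_eq T.two_part) ?_
    refine le_self_pow₀ (by norm_num) ?_
    have h2 : 2 ∣ Nat.card (fixGrp w T.a y T.E) := hR'c ▸ card_dvd_of_le hR'le
    have := one_le_padicValNat_of_dvd (p := 2) Nat.card_pos.ne' h2
    omega
  obtain ⟨P0, Qb, hb⟩ := T.crit.exists_base T.faith T.below hm ht.data R'
    (IsPGroup.of_card (n := 1) (by rw [hR'c, pow_one])) hR'le (by rw [hR'c, hfix2])
  obtain ⟨M, hMp, hPM, hMH, -, hMconj⟩ := exists_max_two hb.two hb.sub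
  obtain rfl : P0 = M := eq_of_le_of_card_ge hPM (hb.sylow M hMp hMH)
  obtain ⟨g₀, hg₀, hg₀C⟩ := hMconj C hCp fun g hg =>
    mem_centSub.2 ⟨T.fix_a hg.1, hCw g hg, fun e he => T.Ec hg.1 he⟩
  obtain ⟨-, hg₀w, hg₀E⟩ := mem_centSub.1 hg₀
  have hsurj : ∀ p ∈ P0, ∃ c ∈ C, g₀ * c * g₀⁻¹ = p := by
    have hb' : Function.Bijective (fun c : C => (⟨g₀ * c * g₀⁻¹, hg₀C c c.2⟩ : P0)) :=
      (Nat.bijective_iff_injective_and_card _).2 ⟨fun c c' e =>
        Subtype.ext ((MulAut.conj g₀).injective (congrArg Subtype.val e :)), by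
        rw [hCcard, hb.P0_card, hR'c]; ring⟩
    intro p hp
    obtain ⟨c, hc⟩ := hb'.2 ⟨p, hp⟩
    exact ⟨c, c.2, congrArg Subtype.val hc⟩
  obtain ⟨x, hx, x1, x2, x3⟩ := T.onto 1 0 (map_one _)
  have hxC : x ∈ C := ⟨hx, mem_centralizer_singleton_iff.2
    (mul_inv_eq_iff_eq_mul.1 (mul_inv_eq_one.1 (T.eta_inj _ (T.comm_mem hx hw) (by
      rw [T.comm_eq hx hw, x1, hw0, x3, zero_mul, zero_mul, pol_zero_left, add_zero, add_zero]))))⟩
  obtain ⟨r, hr, yb, hyb, hxe⟩ := hb.prod _ (hg₀C x hxC)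
  have hrw : ∀ z ∈ R', Commute z g₀ := fun z hz => by
    obtain ⟨n, rfl⟩ := mem_zpowers_iff.1 hz
    exact (hg₀w.symm).zpow_left n
  have hybE : yb ∉ T.E := fun hE => by
    have hxr : x = r * yb := by
      calc x = g₀⁻¹ * (g₀ * x * g₀⁻¹) * g₀ := by group
        _ = g₀⁻¹ * ((r * yb) * g₀) := by rw [hxe]; group
        _ = r * yb := by rw [((hrw r hr).mul_left (hg₀E yb hE).symm).eq, inv_mul_cancel_left]
    obtain ⟨e1, e2, e3⟩ := T.ker' yb hE
    obtain ⟨o1, o2, o3⟩ := T.co_one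
    obtain ⟨n, rfl⟩ := mem_zpowers_iff.1 hr
    have hn : w ^ n = 1 ∨ w ^ n = w := by
      have h2 : w ^ (2 : ℤ) = 1 := by
        show w ^ ((2 : ℕ) : ℤ) = 1
        rw [zpow_natCast, ← hw2, pow_orderOf_eq_one]
      rcases Int.even_or_odd' n with ⟨k, rfl | rfl⟩
      · exact Or.inl (by rw [zpow_mul, h2, one_zpow])
      · exact Or.inr (by rw [zpow_add_one, zpow_mul, h2, one_zpow, one_mul])
    rcases hn with h | h <;> rw [h] at hxr
    · rw [one_mul] at hxr
      rw [hxr, e2] at x2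
      exact zero_ne_one x2
    · rw [hxr, T.zc_mul w hw yb (T.E_le hE), e3, add_zero] at x3
      exact h3 x3
  obtain ⟨e, he, he0, he1⟩ := T.exists_outside 1
  obtain ⟨yb', hyb', hcomm⟩ := hb.Q_form_three rfl yb hyb hybE _ (T.ei_mem e he).1
  obtain ⟨k, hk, hke⟩ := hsurj yb' ((hb.Q_mem _).1 hyb').1
  have hrc : ∀ p ∈ P0, Commute r p := fun p hp => by
    obtain ⟨n, rfl⟩ := mem_zpowers_iff.1 hr
    exact ((mem_centSub.1 (hMH hp)).2.1.symm).zpow_left n
  have hyP : yb ∈ P0 := ((hb.Q_mem _).1 hyb).1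
  have hy'P : yb' ∈ P0 := ((hb.Q_mem _).1 hyb').1
  have h1 : g₀ * (x * k * x⁻¹ * k⁻¹) * g₀⁻¹ = T.ei e := by
    rw [show g₀ * (x * k * x⁻¹ * k⁻¹) * g₀⁻¹ =
      g₀ * x * g₀⁻¹ * (g₀ * k * g₀⁻¹) * (g₀ * x * g₀⁻¹)⁻¹ * (g₀ * k * g₀⁻¹)⁻¹ by group, hxe, hke, ← hcomm,
      show r * yb * yb' * (r * yb)⁻¹ * yb'⁻¹ = r * (yb * yb' * yb⁻¹) * r⁻¹ * yb'⁻¹ by group,
      (hrc _ (mul_mem (mul_mem hyP hy'P) (inv_mem hyP))).eq, mul_inv_cancel_right]
  have h2 : x * k * x⁻¹ * k⁻¹ = T.ei e := by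
    rw [← h1, (hg₀E _ (T.comm_mem hx hk.1)).eq, mul_inv_cancel_right]
  have h4 := congrArg T.η h2
  rw [T.comm_eq hx hk.1, x1, x2, x3, pol_zero_left, (T.ei_mem e he).2, zero_mul, zero_add, mul_one, add_zero] at h4
  rcases T.ec_cases k hk.1 with h | h <;> rw [h] at h4
  · exact he0 h4.symm
  · exact he1 h4.symm

/-- No two-group at `a` is its own normaliser in the two-groups at `a` and has a hyperplane without multis. -/
theorem transfer_kill (htop : Subgroup.closure D = ⊤) (S A : Subgroup G) (hS : IsPGroup 2 S)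
    (hSa : ∀ g ∈ S, g • T.a = T.a)
    (hnorm : ∀ K : Subgroup G, IsPGroup 2 K → S ≤ K → (∀ g ∈ K, g • T.a = T.a) →
      ∀ g ∈ K, (∀ k ∈ S, g * k * g⁻¹ ∈ S) → g ∈ S)
    (hi : A.relIndex S = 2) (hnm : ∀ w ∈ A, ¬ IsMulti Ω w) : False := by
  classical
  haveI := Fact.mk Nat.prime_two
  haveI := T.crit.finite_points
  haveI : IsPretransitive G Ω := ⟨T.crit.trans⟩
  have hle : S ≤ stabilizer G T.a := hSa
  obtain ⟨W, hW⟩ := (hS.comap_subtype (K := stabilizer G T.a)).exists_le_sylow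
  let T₀ : Subgroup G := (W : Subgroup (stabilizer G T.a)).map (stabilizer G T.a).subtype
  have hT : IsPGroup 2 T₀ := W.isPGroup'.map _
  have hidx : ¬ 2 ∣ T₀.index := by
    rw [index_map_subtype, index_stabilizer_of_transitive]
    exact fun h2 => (Nat.prime_two.dvd_mul.1 h2).elim W.not_dvd_index
      (fun h3 => Nat.not_even_iff_odd.2 (T.crit.odd_points T.a).1 (even_iff_two_dvd.2 h3))
  have hST : S ≤ T₀ := fun g hg =>
    ⟨⟨g, hle hg⟩, hW (show (⟨g, hle hg⟩ : stabilizer G T.a) ∈ S.comap (stabilizer G T.a).subtype from hg), rfl⟩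
  have hTa : ∀ g ∈ T₀, g • T.a = T.a := fun g hg => map_subtype_le _ hg
  have hTS : T₀ = S := by
    by_contra hne
    haveI := hT.isNilpotent
    have hlt : S.subgroupOf T₀ < ⊤ :=
      lt_top_iff_ne_top.mpr fun e => hne (le_antisymm (subgroupOf_eq_top.mp e) hST)
    obtain ⟨g, hgN, hgS⟩ := SetLike.exists_of_lt (Group.normalizerCondition_of_isNilpotent _ hlt)
    refine hgS (hnorm T₀ hT hST hTa g g.2 fun k hk => ?_)
    exact (mem_normalizer_iff.1 hgN ⟨k, hST hk⟩).1 hk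
  let P : Sylow 2 G := hT.toSylow hidx
  obtain ⟨d, hd, hd1⟩ : ∃ d ∈ T.E, d ≠ 1 :=
    ⟨_, (T.ei_mem 1 (map_one _)).1, fun h => one_ne_zero (α := L) (by
      rw [← (T.ei_mem 1 (map_one _)).2, h, T.eta_one])⟩
  obtain ⟨x, hx, hx0, hx1⟩ := T.exists_outside (T.η d)
  have hxd : d ≠ T.ei x := fun h => hx1 (by rw [h, (T.ei_mem x hx).2])
  have hxn : T.ei x ≠ 1 := fun h => hx0 (by rw [← (T.ei_mem x hx).2, h, T.eta_one])
  obtain ⟨g, hg⟩ := T.crit.exists_conj_mem (T.crit.commMul T.faith) htop (T.fr.data.mem d hd hd1).1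
    (T.fr.data.mem _ (T.ei_mem x hx).1 hxn).1 hxd (T.fr.data.comm d hd _ (T.ei_mem x hx).1) P A
    (by show A.relIndex T₀ = 2; rw [hTS]; exact hi) T.fr.multi.1
  obtain ⟨-, p, q, hpq, hp, hq⟩ := T.fr.multi
  refine hnm _ hg ⟨by rw [CfsgLib.Signalizer.orderOf_conj]; exact T.fr.multi.1, g • p, g • q,
    fun e => hpq (smul_left_cancel g e), ?_, ?_⟩
  · rw [mul_smul, mul_smul, inv_smul_smul, hp]
  · rw [mul_smul, mul_smul, inv_smul_smul, hq]

end Three

end CfsgLib.AschCrit.EndThree
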