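import Cfsg.Agent.Lib.Invol.AschCrit.EndThree.Field
import Cfsg.Agent.Lib.Invol.AschCrit.ModelBase
import Cfsg.Agent.Lib.Lie.RankOneClass.Ident.Translation
import Cfsg.Agent.Lib.Perm.RankOne.UnitalModel

/-!
Owner: helper29. Aschbacher's criterion, end game of unitary type: the unitary coordinates of the group `Q` of
a model with a kernel of order two.
-/

set_option autoImplicit false
set_option linter.unusedSectionVars false
set_option linter.style.haveILetI false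

namespace CfsgLib.AschCrit.EndThree

open Subgroup MulAction CfsgLib.Lie.RankOne CfsgLib.Lie.RankOneClass CfsgLib.Lie.RankOneClass.Ident
  CfsgLib.Classical.Herm

universe u

variable {G : Type u} [Group G] [Finite G] {Ω : Type u} [MulAction G Ω]

/-- `E` is the fixed field of `σ`, `Q / E` the field, and squaring is the norm. -/
structure UForm (E Q : Subgroup G) (q : ℕ) {L : Type} [Field L] (σ : L →+* L) (η l : G → L) : Prop where
  invol : IsInvol σ
  card : Nat.card (fixedSub σ) = q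
  eta_mem : ∀ e ∈ E, σ (η e) = η e
  eta_mul : ∀ e ∈ E, ∀ f ∈ E, η (e * f) = η e + η f
  eta_inj : ∀ e ∈ E, η e = 0 → e = 1
  eta_onto : ∀ x, σ x = x → ∃ e ∈ E, η e = x
  l_mul : ∀ y ∈ Q, ∀ y' ∈ Q, l (y * y') = l y + l y'
  l_zero : ∀ y ∈ Q, (l y = 0 ↔ y ∈ E)
  l_onto : ∀ z, ∃ y ∈ Q, l y = z
  sq : ∀ y ∈ Q, η (y * y) = l y * σ (l y)

theorem exists_uform {D : Set G} (h : Crit Ω D) (hf : Faithful G Ω) (IH : Below.{u, u} (Nat.card G)) {u : G}
    {a b : Ω} {E : Subgroup G} {q : ℕ} {P R X Q : Subgroup G} {t : G} (hFr : Frame D u a b E q 3)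
    (hm : ModelAt D u a b E q 3 P R X Q t) (hR : Nat.card R = 2) :
    ∃ (L : Type) (_ : Field L) (_ : Finite L) (_ : CharP L 2) (σ : L →+* L) (η l : G → L),
      UForm E Q q σ η l := by
  classical
  haveI := Fact.mk Nat.prime_two
  haveI := h.finite_points
  haveI : FaithfulSMul (cImage Ω D u) (MulAction.fixedBy Ω u) :=
    faithfulSMul_iff.2 fun g hg => Subtype.ext (Equiv.ext hg)
  have hu := hFr.multi
  have hl := hFr.data
  obtain ⟨U, hB⟩ := h.bend hf IH hu hl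
  haveI := hB.simple
  obtain ⟨s, hs2, rfl⟩ := hl.pow
  have hq4 : 4 ≤ 2 ^ s := Crit.four_le_q hl
  set a' := fixPt hl.fix_a with ha'
  set b' := fixPt hl.fix_b with hb'
  have hab' : b' ≠ a' := fun e => hl.ne (congrArg Subtype.val e).symm
  set π := cProj Ω D u with hπ
  obtain ⟨t₀, ht₀, ht₀a, ht₀c⟩ := h.exists_swapper_centralised hl.ne _
    (isPGroup_sup_involution (IsPGroup.of_bot (p := 2) (G := G)) hu.1
      (fun g hg => by rw [Subgroup.mem_bot.1 hg]; exact Commute.one_left u))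
    (fix_sup (fun g hg => by rw [Subgroup.mem_bot.1 hg]; exact ⟨one_smul _ _, one_smul _ _⟩) hl.fix_a hl.fix_b)
  set tc : cGrp D u := ⟨t₀, mem_cGrp ht₀ (ht₀c u (mem_sup_right (mem_zpowers u))).symm⟩ with htc
  have hta : π tc • a' = b' := Subtype.ext ht₀a
  have hS := hB.setup (π tc) ((h.cImage_crit hu).sq (h.cProj_mem (d := tc) ht₀)) (by rw [hta]; exact hab')
  have h2 := hB.rank
  have hqq : qq (cImage Ω D u) a' = 2 ^ s := hB.qq_eq
  -- the field and the coordinates of `U`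
  haveI : Finite (GaloisField 2 (2 * s)) := Nat.finite_of_card_ne_zero (by
    rw [GaloisField.card 2 (2 * s) (by omega)]; exact (Nat.two_pow_pos _).ne')
  letI instL : Fintype (GaloisField 2 (2 * s)) := Fintype.ofFinite _
  have hLc : Fintype.card (GaloisField 2 (2 * s)) = (2 ^ s) ^ 2 := by
    rw [← Nat.card_eq_fintype_card, GaloisField.card 2 (2 * s) (by omega), ← pow_mul, mul_comm]
  set σ := powHom hLc with hσdef
  have hσ : IsInvol σ := powHom_isInvol hLc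
  letI : Fintype (fixedSub σ) := Fintype.ofFinite _
  have hFq : Nat.card (fixedSub σ) = qq (cImage Ω D u) a' := by rw [hσdef, card_fixed_powHom hLc, hqq]
  obtain ⟨⟨w, hw, hw1⟩, hC⟩ : (∃ w ∈ Wg a' (π tc), w ≠ 1) ∧ ∀ w ∈ Wg a' (π tc), w ≠ 1 → ∀ y ∈ U,
      w * y = y * w → y = 1 ∨ y ∈ Cfsg.involutionsIn (stabilizer (cImage Ω D u) a' : Set (cImage Ω D u)) := by
    rcases CfsgLib.RankOneInter.TIAuto.shape_cases hS h2 with e | ⟨-, e⟩ | ⟨-, hc⟩
    · rw [hB.card_U, hqq] at e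
      have := Nat.pow_right_injective (show 2 ≤ 2 ^ s by omega) (e.trans (pow_one _).symm)
      omega
    · rw [hB.card_U, hqq] at e
      have := Nat.pow_right_injective (show 2 ≤ 2 ^ s by omega) e
      omega
    · exact hc
  obtain ⟨LD⟩ := exists_lineData (F := fixedSub σ) hS h2 hFq hw hw1 (fun y hy => hC w hw hw1 y hy)
  obtain ⟨UD⟩ := exists_udata hσ LD (by rw [hB.card_U, ← hqq, ← hFq, Nat.card_eq_fintype_card]) hC
    (fun h => hw1 (Subgroup.mem_bot.1 (h ▸ hw)))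
  -- the Sylow group of the base
  obtain ⟨P0, Qb, hb⟩ := h.exists_base hf IH hu hl R (hm.two.to_le hm.R_le) hm.R_sub hm.R_card
  obtain ⟨M, hMp, hPM, hMH, -, hMconj⟩ := exists_max_two hb.two hb.sub
  obtain rfl : P0 = M := eq_of_le_of_card_ge hPM (hb.sylow M hMp hMH)
  have hQcs : ∀ y ∈ Q, y ∈ centSub u a E := fun y hy => by
    obtain ⟨hya, hyE, -⟩ := hm.sub y (hm.Q_le hy)
    exact mem_centSub.2 ⟨hya, (hm.Q_cent y hy).1, hyE⟩
  obtain ⟨g₀, hg₀, hg₀Q⟩ := hMconj Q (hm.two.to_le hm.Q_le) hQcs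
  have hR2 : ∀ r ∈ R, r = 1 ∨ r = u := by
    intro r hr
    by_contra hcon
    push Not at hcon
    have hu1 : u ≠ 1 := CfsgLib.Signalizer.involution_ne_one hu.1
    let f : Fin 3 → R := ![⟨r, hr⟩, 1, ⟨u, hm.u_mem⟩]
    have hfi : Function.Injective f := by
      intro i j e
      have e' := congrArg Subtype.val e
      fin_cases i <;> fin_cases j <;> simp [f, hcon.1, hcon.2, Ne.symm hcon.1, Ne.symm hcon.2, hu1, Ne.symm hu1] at e' ⊢
    have := Nat.card_le_card_of_injective f hfi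
    rw [hR, Nat.card_fin] at this
    omega
  have hcom : ∀ y : Q, Commute (g₀ * (y : G) * g₀⁻¹) u := fun y => (mem_centSub.1 (hMH (hg₀Q y y.2))).2.1
  let ψ0 : Q →* Equiv.Perm (MulAction.fixedBy Ω u) := MonoidHom.mk' (fun y => fixPermOf (hcom y)) fun y y' =>
    Equiv.ext fun p => Subtype.ext (by
      show (g₀ * ((y : G) * y') * g₀⁻¹) • (p : Ω) = (g₀ * (y : G) * g₀⁻¹) • (g₀ * (y' : G) * g₀⁻¹) • (p : Ω)
      rw [← mul_smul]; group)
  have h2pow : ∀ {g}, g ∈ P0 → ∃ n : ℕ, g ^ 2 ^ n = 1 := fun {g} hg => by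
    obtain ⟨n, hn⟩ := hb.two ⟨g, hg⟩
    exact ⟨n, congrArg Subtype.val hn⟩
  have hdec : ∀ y : Q, ∃ r ∈ R, ∃ z ∈ Qb, g₀ * (y : G) * g₀⁻¹ = r * z ∧
      ∃ hz : z ∈ cGrp D u, π ⟨z, hz⟩ ∈ U ∧ (π ⟨z, hz⟩ : Equiv.Perm (MulAction.fixedBy Ω u)) = ψ0 y := by
    intro y
    obtain ⟨r, hr, z, hz, e⟩ := hb.prod _ (hg₀Q y y.2)
    obtain ⟨hz1, hz2⟩ := (hb.Q_mem z).1 hz
    obtain ⟨n, hn⟩ := h2pow hz1
    refine ⟨r, hr, z, hz, e, hz2, CfsgLib.RankOneInter.TIAuto.mem_Q_of_two_power hS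
      (Subtype.ext (mem_centSub.1 (hMH hz1)).1) (n := n)
      (by rw [← map_pow, show (⟨z, hz2⟩ : cGrp D u) ^ 2 ^ n = 1 from Subtype.ext hn, map_one]), ?_⟩
    refine Equiv.ext fun p => Subtype.ext ?_
    show z • (p : Ω) = (g₀ * (y : G) * g₀⁻¹) • (p : Ω)
    rw [e, mul_smul]
    refine (hm.R_fix r hr _ ?_).symm
    rw [← mul_smul, ← (commute_of_mem_cGrp hz2).eq, mul_smul, show u • (p : Ω) = p from p.2]
  have hψmem : ∀ y : Q, ∃ v : U, ((v : cImage Ω D u) : Equiv.Perm (MulAction.fixedBy Ω u)) = ψ0 y := fun y => by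
    obtain ⟨r, -, z, -, -, hz, hU, he⟩ := hdec y
    exact ⟨⟨_, hU⟩, he⟩
  choose v hv using hψmem
  let ψ : Q →* U := MonoidHom.mk' v fun y y' => Subtype.ext (Subtype.ext (by
    show ((v (y * y') : cImage Ω D u) : Equiv.Perm (MulAction.fixedBy Ω u)) = ((v y : cImage Ω D u) : Equiv.Perm (MulAction.fixedBy Ω u)) * _
    rw [hv, map_mul, hv, hv]))
  have hψi : Function.Injective ψ := (injective_iff_map_eq_one ψ).2 fun y hy => by
    obtain ⟨r, hr, z, hz, e, hzc, -, he⟩ := hdec y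
    have h1 : ψ0 y = 1 := by
      rw [← hv y]; exact congrArg (fun x : U => ((x : cImage Ω D u) : Equiv.Perm (MulAction.fixedBy Ω u))) hy
    have hzb : z • b = b :=
      congrArg Subtype.val (Equiv.congr_fun (he.trans h1) b')
    rw [hb.Q_free z hz hzb, mul_one] at e
    have hy1 : (y : G) = 1 ∨ (y : G) = u := by
      have hgu : g₀⁻¹ * u * g₀ = u := by
        rw [mul_assoc, ← (mem_centSub.1 hg₀).2.1.eq, inv_mul_cancel_left]
      rcases hR2 r hr with rfl | rfl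
      · exact Or.inl (conj_eq_one_iff.1 e)
      · refine Or.inr ?_
        calc (y : G) = g₀⁻¹ * (g₀ * y * g₀⁻¹) * g₀ := by group
          _ = r := by rw [e, hgu]
    rcases hy1 with h1 | h1
    · exact Subtype.ext h1
    · exfalso
      have huE : u ∈ E := h1 ▸ hm.Q_sq_one y y.2 (by
        rw [h1, ← pow_two, ← hu.1, pow_orderOf_eq_one])
      have hu1 : u ≠ 1 := CfsgLib.Signalizer.involution_ne_one hu.1
      exact hl.ne (h.fix_unique u (hl.mem u huE hu1).1 a b hl.fix_a hl.fix_b)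
  have hψs : Function.Surjective ψ := ((Nat.bijective_iff_injective_and_card ψ).2
    ⟨hψi, hm.Q_card.trans hB.card_U.symm⟩).2
  have hψE : ∀ e (he : e ∈ E), (ψ ⟨e, hm.E_Q he⟩ : cImage Ω D u) = π ⟨e, hB.memE e he⟩ := fun e he => by
    refine Subtype.ext ((hv _).trans (Equiv.ext fun p => Subtype.ext ?_))
    show (g₀ * e * g₀⁻¹) • (p : Ω) = e • (p : Ω)
    rw [((mem_centSub.1 hg₀).2.2 e he).eq, mul_inv_cancel_right]
  -- the involutions correspond to `E`
  have hzE : ∀ (y : Q), ((∃ x, UD.D.C.z x = (ψ y : cImage Ω D u)) ↔ (y : G) ∈ E) := by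
    intro y
    constructor
    · rintro ⟨x, hx⟩
      rcases eq_or_ne x 0 with rfl | hx0
      · rw [UD.D.C.z_zero] at hx
        rw [show y = 1 from hψi (Subtype.ext (hx.symm.trans (by rw [map_one]; rfl)))]
        exact one_mem _
      · obtain ⟨e, he, -, hee⟩ := hB.J_onto _ (UD.D.C.z_mem x hx0)
        rw [show y = ⟨e, hm.E_Q he⟩ from hψi (Subtype.ext (hx.symm.trans (hee.symm.trans (hψE e he).symm)))]
        exact he
    · intro he
      rcases eq_or_ne (y : G) 1 with h1 | h1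
      · exact ⟨0, by rw [UD.D.C.z_zero, show y = 1 from Subtype.ext h1, map_one]; rfl⟩
      · obtain ⟨x, hx⟩ := UD.D.C.z_surj _ (hB.J_mem y he h1)
        exact ⟨x, hx.trans (hψE y he).symm⟩
  let val : G → cImage Ω D u := fun g => if hg : g ∈ Q then (ψ ⟨g, hg⟩ : cImage Ω D u) else 1
  have hval : ∀ g (hg : g ∈ Q), val g = ψ ⟨g, hg⟩ := fun g hg => dif_pos hg
  have hvalU : ∀ g, g ∈ Q → val g ∈ U := fun g hg => by rw [hval g hg]; exact (ψ _).2
  have hvmul : ∀ g g', g ∈ Q → g' ∈ Q → val (g * g') = val g * val g' := fun g g' hg hg' => by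
    rw [hval g hg, hval g' hg', hval _ (mul_mem hg hg')]
    exact congrArg Subtype.val (map_mul ψ ⟨g, hg⟩ ⟨g', hg'⟩)
  let η : G → GaloisField 2 (2 * s) := fun g =>
    ((Function.invFun UD.D.C.z (val g) : fixedSub σ) : GaloisField 2 (2 * s))
  have hη : ∀ e, e ∈ E → UD.D.C.z (Function.invFun UD.D.C.z (val e)) = val e := fun e he =>
    Function.invFun_eq (by rw [hval e (hm.E_Q he)]; exact (hzE ⟨e, hm.E_Q he⟩).2 he)
  refine ⟨GaloisField 2 (2 * s), inferInstance, inferInstance, inferInstance, σ, η, fun g => UD.lab (val g),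
    hσ, hFq.trans hqq, fun e _ => (Function.invFun UD.D.C.z (val e)).2, fun e he f hf' => ?_,
    fun e he he0 => ?_, fun x hx => ?_, fun y hy y' hy' => ?_, fun y hy => ?_, fun z => ?_, fun y hy => ?_⟩
  · refine congrArg Subtype.val (a₂ := Function.invFun UD.D.C.z (val e) + Function.invFun UD.D.C.z (val f))
      (UD.D.C.z_inj ?_)
    rw [hη _ (mul_mem he hf'), UD.D.C.z_add, hη e he, hη f hf', hvmul e f (hm.E_Q he) (hm.E_Q hf')]
  · have h1 := hη e he
    rw [show Function.invFun UD.D.C.z (val e) = 0 from Subtype.ext he0, UD.D.C.z_zero, hval e (hm.E_Q he)] at h1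
    exact congrArg Subtype.val (hψi (a₁ := ⟨e, hm.E_Q he⟩) (a₂ := 1) (by rw [map_one]; exact Subtype.ext h1.symm))
  · obtain ⟨⟨e, heQ⟩, he⟩ := hψs ⟨UD.D.C.z ⟨x, hx⟩, UD.D.C.z_mem_Q UD.D.hS _⟩
    have heE : e ∈ E := (hzE ⟨e, heQ⟩).1 ⟨⟨x, hx⟩, (congrArg Subtype.val he).symm⟩
    refine ⟨e, heE, congrArg Subtype.val (UD.D.C.z_inj (a₂ := ⟨x, hx⟩) ?_)⟩
    rw [hη e heE, hval e heQ]
    exact congrArg Subtype.val he
  · show UD.lab (val (y * y')) = _
    rw [hvmul y y' hy hy', UD.lab_mul (hvalU y hy) (hvalU y' hy')]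
  · show UD.lab (val y) = 0 ↔ _
    rw [← hzE ⟨y, hy⟩, ← hval y hy]
    constructor
    · intro h0
      obtain ⟨x, hx⟩ := (UD.lab_eq_iff (one_mem U) (hvalU y hy)).1 (UD.lab_one.trans h0.symm)
      exact ⟨x, by rw [hx, mul_one]⟩
    · rintro ⟨x, hx⟩
      rw [← UD.lab_one]
      exact ((UD.lab_eq_iff (one_mem U) (hvalU y hy)).2 ⟨x, by rw [mul_one, hx]⟩).symm
  · obtain ⟨y, hy, rfl⟩ := UD.exists_lab z
    obtain ⟨⟨g, hg⟩, he⟩ := hψs ⟨y, hy⟩
    exact ⟨g, hg, by show UD.lab (val g) = _; rw [hval g hg, he]⟩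
  · obtain ⟨w, hw, hzz⟩ := UD.sq_eq (hvalU y hy)
    rw [← hvmul y y hy hy] at hzz
    have h1 : η (y * y) = w := congrArg Subtype.val (UD.D.C.z_inj ((hη _ (hm.Q_sq y hy)).trans hzz))
    rw [h1, hw]
    rcases eq_or_ne (UD.lab (val y)) 0 with h0 | h0
    · have hyE : y ∈ E := by
        rw [← hzE ⟨y, hy⟩, ← hval y hy]
        obtain ⟨x, hx⟩ := (UD.lab_eq_iff (one_mem U) (hvalU y hy)).1 (UD.lab_one.trans h0.symm)
        exact ⟨x, by rw [hx, mul_one]⟩
      have hyy : y * y = 1 := by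
        rcases eq_or_ne y 1 with rfl | hy1
        · exact mul_one _
        · exact h.sq (hl.mem y hyE hy1).1
      have h2 : η (y * y) = 0 := by
        refine congrArg Subtype.val (a₂ := (0 : fixedSub σ)) (UD.D.C.z_inj ?_)
        rw [hη _ (hm.Q_sq y hy), hyy, UD.D.C.z_zero, hval 1 (one_mem _)]
        exact congrArg Subtype.val (map_one ψ)
      rw [h1] at h2
      rw [← hw, h2, h0, zero_mul]
    · rw [UD.dlt_eq_zero (hvalU y hy) h0, add_zero]

end CfsgLib.AschCrit.EndThree
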