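import Cfsg.Agent.Lib.Invol.AschCrit.EndThree.Multi
import Mathlib.GroupTheory.Sylow

/-!
Owner: helper29. Aschbacher's criterion, end game of unitary type: the normaliser of `P` keeps the second
coordinate of `u`.

* `Three.n1`, `Three.fix0`: the part centralising `E`, the part fixing the coordinates of `u`.
* `Three.z0_nor`: `z0 = 0` on the normaliser, unless `q ^ 6` divides the number of other points.
* `Three.fixed_le`, `Three.gam_one_of_two`: two-elements fixing the coordinates.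
* `Three.spread_absurd`: semilinear maps are too few to move `q` things transitively.
-/

set_option autoImplicit false
set_option linter.unusedSectionVars false
set_option linter.style.haveILetI false

namespace CfsgLib.AschCrit.EndThree

open Subgroup MulAction CfsgLib.Classical.Herm

universe u

variable {G : Type u} [Group G] [Finite G] {Ω : Type u} [MulAction G Ω]

namespace Three

variable {D : Set G} {L : Type} [Field L] [Finite L] [CharP L 2] (T : Three Ω D L)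
include T

/-- The elements of the normaliser of `P` at the point centralising `E`. -/
def n1 : Subgroup G := T.nor ⊓ centralizer (T.E : Set G)

theorem mem_n1 {g : G} : g ∈ T.n1 ↔ g ∈ T.nor ∧ ∀ e ∈ T.E, Commute g e :=
  and_congr_right fun _ => mem_centralizer_iff.trans (forall₂_congr fun _ _ => eq_comm)

theorem n1_le {g : G} (hg : g ∈ T.n1) : g ∈ T.nor := hg.1

theorem gam_n1 {g : G} (hg : g ∈ T.n1) {x : L} (hx : T.σ x = x) : T.gam g x = x :=
  T.gam_of_cent (T.mem_n1.1 hg).2 hx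

theorem P_le_n1 : T.P ≤ T.n1 := fun _ hp => T.mem_n1.2 ⟨T.P_le_nor hp, fun _ he => T.Ec hp he⟩

/-- The elements fixing the coordinates of `u`. -/
noncomputable def fix0 : Subgroup G where
  carrier := {g | g ∈ T.nor ∧ T.x0 g = 0 ∧ T.z0 g = 0}
  one_mem' := ⟨one_mem _, T.x0_one, T.z0_one⟩
  mul_mem' := fun {g k} hg hk => ⟨mul_mem hg.1 hk.1,
    by rw [T.x0_conj hg.1 hk.1, hg.2.1, hk.2.1, hg.2.2, T.gam_zero hg.1, pol_zero_left, add_zero, add_zero],
    by rw [T.z0_conj hg.1 hk.1, hg.2.2, hk.2.2, T.lmap_zero hg.1, add_zero]⟩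
  inv_mem' := fun {g} hg => by
    obtain ⟨hg1, hx, hz⟩ := hg
    have e1 := T.z0_conj (inv_mem hg1) hg1
    rw [inv_mul_cancel, T.z0_one, hz, T.lmap_zero (inv_mem hg1), add_zero] at e1
    have e2 := T.x0_conj (inv_mem hg1) hg1
    rw [inv_mul_cancel, T.x0_one, hx, ← e1, T.gam_zero (inv_mem hg1), pol_zero_left, add_zero, add_zero] at e2
    exact ⟨inv_mem hg1, e2.symm, e1.symm⟩

theorem mem_fix0 {g : G} : g ∈ T.fix0 ↔ g ∈ T.nor ∧ T.x0 g = 0 ∧ T.z0 g = 0 := Iff.rfl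

/-- The action of an element of `P`. -/
theorem P_act {p : G} (hp : p ∈ T.P) : p ∈ T.fix0 ∧ ∀ z, T.lmap p z = z := by
  have key : ∀ k ∈ T.P, T.xc (p * k * p⁻¹) = T.xc k ∧ T.zc (p * k * p⁻¹) = T.zc k := fun k hk => by
    obtain ⟨-, i2, i3⟩ := T.co_inv hp
    rw [T.xc_mul _ (mul_mem hp hk) _ (inv_mem hp), T.xc_mul p hp k hk, T.zc_mul _ (mul_mem hp hk) _ (inv_mem hp),
      T.zc_mul p hp k hk, i2, i3]
    exact ⟨by linear_combination (T.xc p) * two_zero (L := L),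
      by linear_combination (T.zc p) * two_zero (L := L)⟩
  refine ⟨⟨T.P_le_nor hp, (key _ T.u_mem).1.trans T.u_co.2.1, (key _ T.u_mem).2.trans T.u_co.2.2⟩, fun z => ?_⟩
  obtain ⟨y, hy, y1, -, y3⟩ := T.onto 0 z (map_zero _)
  have h := T.conj_zc (T.P_le_nor hp) hy
  rw [(key y hy).2, y1, y3, zero_mul, zero_add] at h
  exact h.symm

/-- An element centralising the maps on `E` centralises `E`. -/
theorem cent_of_gam {g : G} (hE : ∀ e ∈ T.E, g * e * g⁻¹ ∈ T.E) (h : ∀ x, T.σ x = x → T.gam g x = x) :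
    ∀ e ∈ T.E, Commute g e := fun e he => by
  have h1 := h _ (T.eta_mem e he)
  obtain ⟨h2, h3⟩ := T.ei_mem _ (T.eta_mem e he)
  rw [gam, T.eta_eq h2 he h3] at h1
  exact mul_inv_eq_iff_eq_mul.1 (T.eta_eq (hE e he) he h1)

/-- Composition on `E`. -/
theorem gam_comp {g k : G} (hk : ∀ e ∈ T.E, k * e * k⁻¹ ∈ T.E) {x : L} (hx : T.σ x = x) :
    T.gam (g * k) x = T.gam g (T.gam k x) := by
  obtain ⟨h1, h2⟩ := T.ei_mem x hx
  obtain ⟨h3, h4⟩ := T.ei_mem _ (T.eta_mem _ (hk _ h1))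
  show T.η (g * k * T.ei x * (g * k)⁻¹) = T.η (g * T.ei (T.η (k * T.ei x * k⁻¹)) * g⁻¹)
  rw [T.eta_eq h3 (hk _ h1) h4]
  congr 1
  group

/-- An element normalising `E` and `X Q` acts semilinearly on `E`. -/
theorem semi_PX {g : G} (hE : ∀ e ∈ T.E, g * e * g⁻¹ ∈ T.E) (hPX : ∀ p ∈ T.PX, g * p * g⁻¹ ∈ T.PX) :
    Semi T.σ (T.gam g) := by
  have hsurj : ∀ p ∈ T.PX, ∃ k ∈ T.PX, g * k * g⁻¹ = p := fun p hp => by
    have hb := Finite.injective_iff_surjective.1
      (show Function.Injective (fun k : T.PX => (⟨g * k * g⁻¹, hPX k k.2⟩ : T.PX)) from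
        fun k k' e => Subtype.ext ((MulAut.conj g).injective (congrArg Subtype.val e :)))
    obtain ⟨k, hk⟩ := hb ⟨p, hp⟩
    exact ⟨k, k.2, congrArg Subtype.val hk⟩
  have hgfix : ∀ x, T.σ x = x → T.σ (T.gam g x) = T.gam g x := fun x hx =>
    T.eta_mem _ (hE _ (T.ei_mem x hx).1)
  have heta : ∀ e ∈ T.E, T.η (g * e * g⁻¹) = T.gam g (T.η e) := fun e he => by
    obtain ⟨h1, h2⟩ := T.ei_mem _ (T.eta_mem e he)
    rw [gam, T.eta_eq h1 he h2]
  have hgadd : ∀ x y, T.σ x = x → T.σ y = y → T.gam g (x + y) = T.gam g x + T.gam g y := fun x y hx hy => by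
    obtain ⟨h1, h2⟩ := T.ei_mem x hx
    obtain ⟨h3, h4⟩ := T.ei_mem y hy
    conv_lhs => rw [← h2, ← h4, ← T.eta_mul _ h1 _ h3, ← heta _ (mul_mem h1 h3)]
    rw [show g * (T.ei x * T.ei y) * g⁻¹ = g * T.ei x * g⁻¹ * (g * T.ei y * g⁻¹) by group,
      T.eta_mul _ (hE _ h1) _ (hE _ h3)]
    rfl
  have hginj : ∀ x, T.σ x = x → T.gam g x = 0 → x = 0 := fun x hx h => by
    obtain ⟨h1, h2⟩ := T.ei_mem x hx
    rw [← h2, show T.ei x = 1 from conj_eq_one_iff.1 (T.eta_inj _ (hE _ h1) h), T.eta_one]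
  -- the map on `Q`
  have hy : ∀ z, ∃ y ∈ T.PX, T.xc y = 0 ∧ T.zc y = z ∧ T.zc (g * y * g⁻¹) = T.lmap g z := fun z => by
    obtain ⟨y, hy, y1, y2, y3⟩ := T.onto 0 z (map_zero _)
    obtain ⟨hk, k1, k2, k3⟩ := (T.onto 0 z (map_zero _)).choose_spec
    set k := (T.onto 0 z (map_zero _)).choose
    exact ⟨k, ⟨hk, k1⟩, k2, k3, rfl⟩
  have hpol : ∀ z w, pol T.σ (T.lmap g z) (T.lmap g w) = T.gam g (pol T.σ z w) := fun z w => by
    obtain ⟨y, hyX, y2, y3, y4⟩ := hy z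
    obtain ⟨k, hkX, k2, k3, k4⟩ := hy w
    have h := heta _ (T.comm_mem hyX.1 hkX.1)
    rw [show g * (y * k * y⁻¹ * k⁻¹) * g⁻¹ =
      g * y * g⁻¹ * (g * k * g⁻¹) * (g * y * g⁻¹)⁻¹ * (g * k * g⁻¹)⁻¹ by group,
      T.comm_eq (hPX y hyX).1 (hPX k hkX).1, T.comm_eq hyX.1 hkX.1, (hPX y hyX).2, (hPX k hkX).2,
      hyX.2, hkX.2, y3, k3, y4, k4] at h
    simpa only [zero_mul, zero_add] using h
  have hadd : ∀ z w, T.lmap g (z + w) = T.lmap g z + T.lmap g w := fun z w => by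
    obtain ⟨y, hyX, y2, y3, y4⟩ := hy z
    obtain ⟨k, hkX, k2, k3, k4⟩ := hy w
    obtain ⟨r, hrX, r2, r3, r4⟩ := hy (z + w)
    have hd : r⁻¹ * (y * k) ∈ T.E := T.inv_mul_mem hrX.1 (mul_mem hyX.1 hkX.1)
      (by rw [hrX.2, T.ec_mul y hyX.1 k hkX.1, hyX.2, hkX.2, add_zero])
      (by rw [r2, T.xc_mul y hyX.1 k hkX.1, y2, k2, add_zero]) (by rw [r3, T.zc_mul y hyX.1 k hkX.1, y3, k3])
    have h := T.zc_mul _ (hPX y hyX).1 _ (hPX k hkX).1
    rw [show g * y * g⁻¹ * (g * k * g⁻¹) = g * r * g⁻¹ * (g * (r⁻¹ * (y * k)) * g⁻¹) by group,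
      T.zc_mul _ (hPX r hrX).1 _ (T.E_le (hE _ hd)), (T.ker' _ (hE _ hd)).2.2, add_zero, y4, k4, r4] at h
    exact h
  refine (semi_of_pol T.invol ?_ hadd hgfix hgadd hginj hpol).1
  intro z w hzw
  apply eq_of_add_zero
  have h0 : T.lmap g (z + w) = 0 := by rw [hadd, hzw, CharTwo.add_self_eq_zero]
  by_contra hne
  obtain ⟨v, hv⟩ := exists_pol T.invol hne (map_one T.σ)
  have h := hpol (z + w) v
  rw [h0, hv, pol_zero_left] at h
  exact one_ne_zero (hginj 1 (map_one _) h.symm)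

/-- A subgroup at the point centralising `E` with a large two-part. -/
theorem dvd_of_group (H : Subgroup G) (hH : ∀ g ∈ H, g • T.a = T.a ∧ ∀ e ∈ T.E, Commute g e)
    (hd : 2 * T.q ^ 6 ∣ Nat.card H) : T.q ^ 6 ∣ Nat.card Ω - 1 := by
  haveI := Fact.mk Nat.prime_two
  obtain ⟨K, hK⟩ := Sylow.exists_subgroup_card_pow_prime (G := H) 2 (n := T.s * 6 + 1) (by
    rwa [pow_succ, pow_mul, ← T.q_eq, mul_comm])
  have hc : Nat.card (K.map H.subtype) = 2 * T.q ^ 6 := by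
    rw [Subgroup.card_map_of_injective (Subgroup.subtype_injective _), hK, T.q_eq, ← pow_mul, pow_succ, mul_comm]
  have h := (T.orb T.u T.a T.b T.E T.q 3 T.fr (K.map H.subtype)
    ((IsPGroup.of_card hK).map _) (fun g hg => hH g (map_subtype_le _ hg))).2
  rw [T.two_part, hc, mul_comm (Nat.card Ω - 1)] at h
  exact Nat.dvd_of_mul_dvd_mul_left two_pos h

theorem gam_free {g : G} (hg : g ∈ T.nor) (htr : ∀ e f, T.σ e = e → T.σ f = f → e ≠ 0 → f ≠ 0 →
    ∃ j : ℕ, T.gam (g ^ j) e = f) {x : L} (hx : T.σ x = x) (h : T.gam g x = x) : x = 0 := by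
  by_contra h0
  have hfix : ∀ j : ℕ, T.gam (g ^ j) x = x := by
    intro j
    induction j with
    | zero => rw [pow_zero]; exact T.gam_of_cent (fun e _ => Commute.one_left e) hx
    | succ j ih => rw [pow_succ, T.gam_conj (pow_mem hg j) hg hx, h, ih]
  obtain ⟨f, hf, hf0, hfx⟩ := T.exists_outside x
  obtain ⟨j, hj⟩ := htr x f hx hf h0 hf0
  exact hfx (hj.symm.trans (hfix j))

/-- An additive map commuting with the action is zero or injective. -/
theorem comm_cases (f : L → L) (hcomm : ∀ g ∈ T.nor, ∀ x, T.σ x = x → f (T.gam g x) = T.gam g (f x)) :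
    (∀ x, T.σ x = x → x ≠ 0 → f x = 0) ∨ ∀ x, T.σ x = x → f x = 0 → x = 0 := by
  by_cases h : ∃ x, T.σ x = x ∧ f x = 0 ∧ x ≠ 0
  · obtain ⟨x, hx, hfx, hx0⟩ := h
    obtain ⟨t, ht, -, -, -, htr⟩ := T.exists_torus
    refine Or.inl fun y hy hy0 => ?_
    obtain ⟨j, rfl⟩ := htr x y hx hy hx0 hy0
    rw [hcomm _ (pow_mem ht j) x hx, hfx, T.gam_zero (pow_mem ht j)]
  · push Not at h
    exact Or.inr h

theorem lam_cases : (∀ x, T.σ x = x → T.lam x = 0) ∨ ∀ x, T.σ x = x → T.lam x = 0 → x = 0 :=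
  (T.comm_cases T.lam fun _ hg _ hx => T.lam_gam hg hx).imp_left fun h x hx => by
    rcases eq_or_ne x 0 with rfl | h0
    exacts [T.lam_zero, h x hx h0]

theorem one_lam_cases :
    (∀ x, T.σ x = x → T.lam x = x) ∨ ∀ x, T.σ x = x → x + T.lam x = 0 → x = 0 :=
  (T.comm_cases (fun x => x + T.lam x) fun _ hg _ hx => by
    rw [T.lam_gam hg hx, T.gam_add hg hx (T.lam_fix _ hx)]).imp_left fun h x hx => by
    rcases eq_or_ne x 0 with rfl | h0
    exacts [T.lam_zero, (eq_of_add_zero (h x hx h0)).symm]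

/-- A subgroup fixing `z0` transfers it. -/
theorem z0_conj_eq {g k : G} (hg : g ∈ T.nor) (hk : k ∈ T.nor) (hz : T.z0 g = 0) :
    T.z0 (g * k * g⁻¹) = T.lmap g (T.z0 k) := by
  have hgk : g * k * g⁻¹ ∈ T.nor := mul_mem (mul_mem hg hk) (inv_mem hg)
  have h1 := T.z0_conj hgk hg
  have h2 := T.z0_conj hg hk
  rw [inv_mul_cancel_right, hz, T.lmap_zero hgk, add_zero] at h1
  rw [h1, hz, zero_add] at h2
  exact h2

theorem x0_conj_eq {g k : G} (hg : g ∈ T.nor) (hk : k ∈ T.nor) (hx : T.x0 g = 0) (hz : T.z0 g = 0) :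
    T.x0 (g * k * g⁻¹) = T.gam g (T.x0 k) := by
  have hgk : g * k * g⁻¹ ∈ T.nor := mul_mem (mul_mem hg hk) (inv_mem hg)
  have h1 := T.x0_conj hgk hg
  have h2 := T.x0_conj hg hk
  rw [inv_mul_cancel_right, hx, hz, T.gam_zero hgk, T.lmap_zero hgk, pol_zero_right, add_zero, add_zero] at h1
  rw [h1, hx, hz, zero_add, pol_zero_left, add_zero] at h2
  exact h2

theorem lmap_conj_id {g k : G} (hg : g ∈ T.nor) (hk : k ∈ T.nor) (h : ∀ z, T.lmap k z = z) (z : L) :
    T.lmap (g * k * g⁻¹) z = z := by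
  rw [T.lmap_conj (mul_mem hg hk) (inv_mem hg), T.lmap_conj hg hk, h, ← T.lmap_conj hg (inv_mem hg),
    mul_inv_cancel, T.lmap_one]

/-- With `lam = 0` an element of `C(E)` is an isometry; of odd order, a rotation. -/
theorem rot_of_odd {g : G} (hg : g ∈ T.n1) (hlam : ∀ x, T.σ x = x → T.lam x = 0) (hodd : Odd (orderOf g)) :
    ∃ m, ∀ z, T.lmap g z = m * z := by
  have hn := T.n1_le hg
  obtain ⟨m, hm, h | h⟩ := isometry_cases T.invol (T.lmap_add hn) fun z => by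
    have h := T.defect hn z
    rw [hlam _ (pol_fix T.invol _ _), T.gam_n1 hg (nrm_fix T.invol z)] at h
    exact eq_of_add_zero h
  · exact ⟨m, h⟩
  · refine ⟨1, fun z => ?_⟩
    have hinv : ∀ z, T.lmap g (T.lmap g z) = z := fun z => by
      rw [h, h, map_mul, T.invol.invol, ← mul_assoc, show m * T.σ m = 1 from hm, one_mul]
    obtain ⟨k, hk⟩ := hodd
    have h1 := T.lmap_pow hn (orderOf g) z
    rw [pow_orderOf_eq_one, T.lmap_one, hk, Function.iterate_add_apply, Function.iterate_mul,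
      Function.iterate_one, show (T.lmap g)^[2] = id from funext hinv, Function.iterate_id, id_eq] at h1
    rw [one_mul]
    exact h1.symm

/-- Unless `q ^ 6` divides the count, `C(E)` fixes the second coordinate of `u`. -/
theorem z0_n1 (hn : ¬ T.q ^ 6 ∣ Nat.card Ω - 1) {g : G} (hg : g ∈ T.n1) : T.z0 g = 0 := by
  classical
  obtain ⟨t, ht, -, htx, htz, htr⟩ := T.exists_torus
  rcases T.lam_cases with hlam | hlam
  swap
  · by_contra hz
    have hn1 := T.n1_le hg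
    have hl := linear_lam T.invol (T.lmap_inj hn1) (T.lmap_add hn1) T.lam_add hz fun z => by
      have h := T.defect hn1 z
      rwa [T.gam_n1 hg (nrm_fix T.invol z)] at h
    have h1 := square_map_zero T.invol T.card_fix T.two_s T.lam (T.lam_fix 1 (map_one _)) hl fun c hc hc0 => by
      obtain ⟨j, hj⟩ := htr 1 c (map_one _) hc one_ne_zero hc0
      exact ⟨T.gam (t ^ j), T.gam_semi (pow_mem ht j), hj, fun e he => (T.lam_gam (pow_mem ht j) he).symm⟩
    exact one_ne_zero (hlam 1 (map_one _) h1)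
  -- translations
  obtain ⟨r, hr, hrE, -, hrz, m, hm, hm1, hrl⟩ := T.exists_rot
  have hr1 : r ∈ T.n1 := T.mem_n1.2 ⟨hr, hrE⟩
  let Tr : Subgroup G :=
    { carrier := {k | k ∈ T.n1 ∧ ∀ z, T.lmap k z = z}
      one_mem' := ⟨one_mem _, T.lmap_one⟩
      mul_mem' := fun {k k'} hk hk' => ⟨mul_mem hk.1 hk'.1, fun z => by
        rw [T.lmap_conj (T.n1_le hk.1) (T.n1_le hk'.1), hk'.2, hk.2]⟩
      inv_mem' := fun {k} hk => ⟨inv_mem hk.1, fun z => by
        conv_lhs => rw [← hk.2 z]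
        rw [← T.lmap_conj (T.n1_le (inv_mem hk.1)) (T.n1_le hk.1), inv_mul_cancel, T.lmap_one]⟩ }
  let φ : Tr →* Multiplicative L := MonoidHom.mk' (fun k => Multiplicative.ofAdd (T.z0 k)) fun k k' => by
    rw [← ofAdd_add]
    congr 1
    show T.z0 ((k : G) * k') = _
    rw [T.z0_conj (T.n1_le k.2.1) (T.n1_le k'.2.1), k.2.2]
  have hTr : ∀ x ∈ T.nor, ∀ k ∈ Tr, x * k * x⁻¹ ∈ Tr := fun x hx k hk => by
    refine ⟨T.mem_n1.2 ⟨mul_mem (mul_mem hx (T.n1_le hk.1)) (inv_mem hx), fun e he => ?_⟩,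
      T.lmap_conj_id hx (T.n1_le hk.1) hk.2⟩
    have he' := T.nor_E (inv_mem hx) he
    rw [inv_inv] at he'
    have h := (((T.mem_n1.1 hk.1).2 _ he').map (MulAut.conj x).toMonoidHom)
    simpa [mul_assoc] using h
  let I : AddSubgroup L :=
    { carrier := {z | ∃ k : Tr, T.z0 k = z}
      zero_mem' := ⟨1, T.z0_one⟩
      add_mem' := by
        rintro _ _ ⟨k, rfl⟩ ⟨k', rfl⟩
        exact ⟨k * k', congrArg Multiplicative.toAdd (map_mul φ k k')⟩
      neg_mem' := by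
        rintro _ ⟨k, rfl⟩
        exact ⟨k, by rw [CharTwo.neg_eq]⟩ }
  have hcases := invariant_top T.invol T.card_fix T.two_s I hm hm1
    (by
      rintro z ⟨k, rfl⟩
      exact ⟨⟨r * k * r⁻¹, hTr r hr k k.2⟩, by rw [T.z0_conj_eq hr (T.n1_le k.2.1) hrz, hrl]⟩)
    fun e f he hf he0 hf0 => by
      obtain ⟨j, hj⟩ := htr e f he hf he0 hf0
      have hj0 : t ^ j ∈ T.fix0 := pow_mem (T.mem_fix0.2 ⟨ht, htx, htz⟩) j
      refine ⟨T.lmap (t ^ j), T.lmap_inj hj0.1, ?_, fun z hz => ?_⟩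
      · rintro z ⟨k, rfl⟩
        exact ⟨⟨t ^ j * k * (t ^ j)⁻¹, hTr _ hj0.1 k k.2⟩, T.z0_conj_eq hj0.1 (T.n1_le k.2.1) hj0.2.2⟩
      · have h := T.defect hj0.1 z
        rw [hj0.2.2, pol_zero_left, T.lam_zero, hz, hj] at h
        exact eq_of_add_zero h
  rcases hcases with hI | hI
  · -- rotations
    have hrot : ∀ {x}, x ∈ T.n1 → (∃ c, ∀ z, T.lmap x z = c * z) → T.z0 x = 0 := by
      rintro x hx ⟨c, hc⟩
      have hxn := T.n1_le hx
      have hk : r * x * r⁻¹ * x⁻¹ ∈ Tr := by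
        refine ⟨mul_mem (mul_mem (mul_mem hr1 hx) (inv_mem hr1)) (inv_mem hx), fun z => ?_⟩
        have h1 : ∀ z, T.lmap (r * x * r⁻¹ * x⁻¹) (T.lmap (x * r) z) = T.lmap (r * x) z := fun z => by
          rw [← T.lmap_conj (mul_mem (mul_mem (mul_mem hr hxn) (inv_mem hr)) (inv_mem hxn)) (mul_mem hxn hr)]
          congr 1; group
        obtain ⟨w, rfl⟩ := (Finite.injective_iff_surjective.1 (T.lmap_inj (mul_mem hxn hr))) z
        rw [h1, T.lmap_conj hr hxn, T.lmap_conj hxn hr, hc, hrl, hrl, hc, mul_left_comm]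
      have hk0 : T.z0 (r * x * r⁻¹ * x⁻¹) = 0 := by
        have h : T.z0 (r * x * r⁻¹ * x⁻¹) ∈ I := ⟨⟨_, hk⟩, rfl⟩
        rw [hI] at h
        exact h
      have h1 := T.z0_conj (T.n1_le hk.1) (mul_mem hxn hr)
      rw [show r * x * r⁻¹ * x⁻¹ * (x * r) = r * x by group, hk0, hk.2, T.z0_conj hr hxn, T.z0_conj hxn hr,
        hrz, T.lmap_zero hxn, hrl, zero_add, zero_add, add_zero] at h1
      exact ((mul_eq_zero.1 (show (m + 1) * T.z0 x = 0 by
        linear_combination h1 + (T.z0 x) * two_zero (L := L))).resolve_left fun h => hm1 (eq_of_add_zero h))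
    have hgn := T.n1_le hg
    obtain ⟨r', hr', hrr'⟩ : ∃ r' ∈ T.n1, r * g = g * r' :=
      ⟨g⁻¹ * r * g, mul_mem (mul_mem (inv_mem hg) hr1) hg, by group⟩
    have hc' : ∃ c, ∀ z, T.lmap r' z = c * z := by
      by_cases hg2 : ∃ c, ∀ z, T.lmap g z = c * z
      · obtain ⟨c, hc⟩ := hg2
        have hc0 : c ≠ 0 := fun h => one_ne_zero (α := L) (T.lmap_inj hgn (by rw [hc, hc, h, zero_mul, zero_mul]))
        refine ⟨m, fun z => mul_left_cancel₀ hc0 ?_⟩
        rw [← hc, ← T.lmap_conj hgn (T.n1_le hr'), ← hrr', T.lmap_conj hr hgn, hrl, hc]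
        ring
      · obtain ⟨c, hc1, hc | hc⟩ := isometry_cases T.invol (T.lmap_add hgn) fun z => by
          have h := T.defect hgn z
          rw [hlam _ (pol_fix T.invol _ _), T.gam_n1 hg (nrm_fix T.invol z)] at h
          exact eq_of_add_zero h
        · exact absurd ⟨c, hc⟩ hg2
        · have hc0 : c ≠ 0 := fun h => by rw [h, nrm_zero] at hc1; exact zero_ne_one hc1
          refine ⟨T.σ m, fun z => ?_⟩
          have h : T.lmap g (T.lmap r' z) = m * T.lmap g z := by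
            rw [← T.lmap_conj hgn (T.n1_le hr'), ← hrr', T.lmap_conj hr hgn, hrl]
          rw [hc, hc, mul_left_comm] at h
          have h' := congrArg T.σ (mul_left_cancel₀ hc0 h)
          rw [map_mul, T.invol.invol, T.invol.invol] at h'
          exact h'
    have h1 := T.z0_conj hgn (T.n1_le hr')
    rw [← hrr', T.z0_conj hr hgn, hrot hr' hc', T.lmap_zero hgn, hrz, hrl, zero_add, add_zero] at h1
    exact ((mul_eq_zero.1 (show (m + 1) * T.z0 g = 0 by
      linear_combination h1 + (T.z0 g) * two_zero (L := L))).resolve_left fun h => hm1 (eq_of_add_zero h))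
  · exfalso
    refine hn (T.dvd_of_group Tr (fun k hk => ⟨T.nor_fix (T.n1_le hk.1), (T.mem_n1.1 hk.1).2⟩) ?_)
    have h := card_mul_index φ.ker
    have htop : φ.range = ⊤ := eq_top_iff.2 fun z _ => by
      have hz : Multiplicative.toAdd z ∈ I := hI ▸ AddSubgroup.mem_top _
      obtain ⟨k, hk⟩ := hz
      exact ⟨k, congrArg Multiplicative.ofAdd hk⟩
    rw [index_ker, htop, card_top, Nat.card_congr Multiplicative.toAdd, T.invol.card_sq, T.card_fix,
      ← T.q_eq] at h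
    have hP : Nat.card T.P ∣ Nat.card φ.ker := by
      have hle : ∀ p ∈ T.P, ∃ k ∈ φ.ker, (k : G) = p := fun p hp =>
        ⟨⟨p, T.P_le_n1 hp, (T.P_act hp).2⟩, congrArg Multiplicative.ofAdd (T.P_act hp).1.2.2, rfl⟩
      refine card_dvd_of_injective (MonoidHom.mk' (fun p : T.P => (⟨⟨p, T.P_le_n1 p.2, (T.P_act p.2).2⟩, ?_⟩ :
        φ.ker)) fun p p' => rfl) fun p p' e => Subtype.ext (congrArg (fun x : φ.ker => ((x : Tr) : G)) e)
      obtain ⟨k, hk, hkp⟩ := hle p p.2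
      rwa [show (⟨(p : G), T.P_le_n1 p.2, (T.P_act p.2).2⟩ : Tr) = k from Subtype.ext hkp.symm]
    rw [T.card_P] at hP
    rw [← h, show 2 * T.q ^ 6 = T.q ^ 4 * 2 * T.q ^ 2 by ring]
    exact Nat.mul_dvd_mul_right hP _

/-- Then the whole normaliser fixes it. -/
theorem z0_nor (hn : ¬ T.q ^ 6 ∣ Nat.card Ω - 1) {g : G} (hg : g ∈ T.nor) : T.z0 g = 0 := by
  obtain ⟨r, hr, hrE, -, hrz, m, -, hm1, hrl⟩ := T.exists_rot
  have hr' : g⁻¹ * r * g ∈ T.n1 := T.mem_n1.2 ⟨mul_mem (mul_mem (inv_mem hg) hr) hg, fun e he => by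
    have he' := T.nor_E hg he
    have h := (hrE _ he').map (MulAut.conj g⁻¹).toMonoidHom
    simpa [mul_assoc] using h⟩
  have h1 := T.z0_conj hg (T.n1_le hr')
  rw [show g * (g⁻¹ * r * g) = r * g by group, T.z0_conj hr hg, T.z0_n1 hn hr', T.lmap_zero hg, hrz, hrl,
    zero_add, add_zero] at h1
  exact ((mul_eq_zero.1 (show (m + 1) * T.z0 g = 0 by
    linear_combination h1 + (T.z0 g) * two_zero (L := L))).resolve_left fun h => hm1 (eq_of_add_zero h))

/-- A two-group over `P` in `C(E)` fixing the coordinates of `u` is `P`. -/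
theorem fixed_le (K : Subgroup G) (hK : IsPGroup 2 K) (hP : T.P ≤ K) (h1 : K ≤ T.n1) (h0 : K ≤ T.fix0) :
    K = T.P := by
  refine (eq_of_le_of_card_ge hP (T.mod.sylow K hK fun g hg => ?_)).symm
  obtain ⟨hn, hx, hz⟩ := T.mem_fix0.1 (h0 hg)
  exact ⟨T.nor_fix hn, (T.mem_n1.1 (h1 hg)).2, T.inv_mul_mem T.u_mem (T.nor_conj hn T.u_mem)
    (T.ec_conj hn T.u_mem).symm (T.u_co.2.1.trans hx.symm) (T.u_co.2.2.trans hz.symm)⟩

/-- A two-element fixing the coordinates of `u`, whose powers centralising `E` act trivially, centralises `E`. -/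
theorem gam_one_of_two {g : G} (hg : g ∈ T.fix0) {n : ℕ} (hn : g ^ 2 ^ n = 1)
    (htriv : ∀ j : ℕ, (∀ x, T.σ x = x → T.gam (g ^ j) x = x) → ∀ z, T.lmap (g ^ j) z = z) :
    ∀ e ∈ T.E, Commute g e := by
  have hgn := (T.mem_fix0.1 hg).1
  suffices key : ∀ d m : ℕ, m + d = n → ∀ x, T.σ x = x → T.gam (g ^ 2 ^ m) x = x by
    refine T.cent_of_gam (fun e he => T.nor_E hgn he) fun x hx => ?_
    have h := key n 0 (Nat.zero_add n) x hx
    rwa [pow_zero, pow_one] at h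
  intro d
  induction d with
  | zero =>
    intro m hm x hx
    rw [Nat.add_zero] at hm
    rw [hm, hn]
    exact T.gam_of_cent (fun e _ => Commute.one_left e) hx
  | succ d ih =>
    intro m hm
    have h2 := ih (m + 1) (by omega)
    have hL := htriv _ h2
    have hk : g ^ 2 ^ m ∈ T.nor := pow_mem hgn _
    obtain ⟨-, -, hz⟩ := pow_mem hg (2 ^ m)
    refine semi_involution T.invol (T.lmap_add hk) (fun z => ?_) (fun _ => T.gam_fix hk)
      (fun _ _ => T.gam_add hk) fun z => ?_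
    · rw [← T.lmap_conj hk hk, ← pow_add, ← two_mul, ← pow_succ']
      exact hL z
    · have h := T.defect hk z
      rw [hz, pol_zero_left, T.lam_zero] at h
      exact eq_of_add_zero h

/-- Semilinear maps cannot distinguish `q` cosets of a transitive group. -/
theorem spread_absurd (f : fixedSub T.σ → G) {t : G} (ht : t ∈ T.nor)
    (htr : ∀ e g, T.σ e = e → T.σ g = g → e ≠ 0 → g ≠ 0 → ∃ j : ℕ, T.gam (t ^ j) e = g)
    (hfE : ∀ x, ∀ e ∈ T.E, f x * e * (f x)⁻¹ ∈ T.E) (hfX : ∀ x, ∀ p ∈ T.PX, f x * p * (f x)⁻¹ ∈ T.PX)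
    (hinj : ∀ x y (i j : ℕ), (∀ e, T.σ e = e → T.gam (f x * t ^ i) e = T.gam (f y * t ^ j) e) → x = y) :
    False := by
  choose j hj using fun c : (fixedSub T.σ)ˣ => htr 1 (c : fixedSub T.σ) (map_one _) (c : fixedSub T.σ).2
    one_ne_zero (fun h => c.ne_zero (Subtype.ext h))
  have htn : ∀ i : ℕ, t ^ i ∈ T.nor := fun i => pow_mem ht i
  have htX : ∀ i : ℕ, ∀ p ∈ T.PX, t ^ i * p * (t ^ i)⁻¹ ∈ T.PX := fun i p hp =>
    ⟨T.nor_conj (htn i) hp.1, by rw [T.ec_conj (htn i) hp.1, hp.2]⟩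
  have hS : ∀ p : fixedSub T.σ × (fixedSub T.σ)ˣ, Semi T.σ (T.gam (f p.1 * t ^ j p.2)) := fun p =>
    T.semi_PX (fun e he => by
      have h := hfE p.1 _ (T.nor_E (htn (j p.2)) he)
      rwa [show f p.1 * t ^ j p.2 * e * (f p.1 * t ^ j p.2)⁻¹ =
        f p.1 * (t ^ j p.2 * e * (t ^ j p.2)⁻¹) * (f p.1)⁻¹ by group])
      fun q hq => by
      have h := hfX p.1 _ (htX (j p.2) q hq)
      rwa [show f p.1 * t ^ j p.2 * q * (f p.1 * t ^ j p.2)⁻¹ =
        f p.1 * (t ^ j p.2 * q * (t ^ j p.2)⁻¹) * (f p.1)⁻¹ by group]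
  have h := card_semi_le T.invol T.card_fix
    (fun p : fixedSub T.σ × (fixedSub T.σ)ˣ => T.gam (f p.1 * t ^ j p.2)) hS fun p p' hpp => by
    have hx := hinj p.1 p'.1 _ _ hpp
    refine Prod.ext hx (Units.ext (Subtype.ext ?_))
    have h1 := hpp 1 (map_one _)
    rw [T.gam_comp (fun e he => T.nor_E (htn _) he) (map_one _),
      T.gam_comp (fun e he => T.nor_E (htn _) he) (map_one _), hj, hj, hx] at h1
    have hsemi := T.semi_PX (hfE p'.1) (hfX p'.1)
    refine eq_of_add_zero (hsemi.inj _ ?_ ?_)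
    · rw [map_add, (p.2 : fixedSub T.σ).2, (p'.2 : fixedSub T.σ).2]; rfl
    · rw [hsemi.add _ _ (p.2 : fixedSub T.σ).2 (p'.2 : fixedSub T.σ).2, h1, CharTwo.add_self_eq_zero]
  rw [Nat.card_prod, Nat.card_units, T.card_fix, mul_comm] at h
  have h2 := Nat.le_of_mul_le_mul_left h (by
    have := Nat.one_lt_two_pow (n := T.s) (by have := T.two_s; omega)
    omega)
  exact absurd h2 (Nat.lt_two_pow_self (n := T.s)).not_ge

end Three

end CfsgLib.AschCrit.EndThree
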